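/-
Relators on three involutions generating an involution centralizer.
-/
import Cfsg.Agent.Lib.Spor.TC.Word

namespace CfsgLib.Spor.HeInvCent

open CfsgLib.Spor.TC

/-- Relators on the first two involutions. -/
def relsD : List PowRel := [([0, 1], 4)]

/-- All relators. -/
def relsC : List PowRel := [
  ([0, 1], 4),
  ([0, 2], 4),
  ([1, 2], 4),
  ([0, 1, 0, 2, 1, 2, 0, 2, 1, 2], 2),
  ([0, 1, 2, 1, 0, 1, 2, 1, 0, 2], 2),
  ([0, 1, 0, 1, 2, 0, 1, 0, 2], 3),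
  ([0, 1, 0, 2, 0, 1, 2, 0, 2], 3),
  ([0, 1, 0, 2, 0, 1, 2], 7)]

/-- Words of the involutions in the presented Held group. -/
def genWords : List (List ℕ) := [[1, 5, 3, 2, 1, 3, 5], [2, 3, 2, 3, 4, 6, 3, 2, 3, 2], [2, 3, 2, 3, 5, 3, 2, 3, 2]]

end CfsgLib.Spor.HeInvCent
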