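/-
Words for the centralizer of an involution of the presented Held group.
-/
import Cfsg.Agent.Lib.Spor.ActCert.Search

set_option autoImplicit false
set_option maxRecDepth 100000
set_option maxHeartbeats 0

namespace CfsgLib.Spor.HeInvCent

open CfsgLib.Spor.TC CfsgLib.Spor.ActCert

/-- The involution. -/
def zw : List ℕ := [3]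

/-- Its fixed points. -/
def fixPts : List ℕ := [0, 1, 4, 17, 18, 22, 37, 70, 75, 78, 79, 81, 82, 157, 244, 253, 258, 268, 306, 425, 429, 434, 437, 440, 450, 471, 504, 506, 722, 732, 743, 744, 749, 774, 776, 847, 1178, 1214, 1683, 1852, 1880, 1934]

/-- Words commuting with it, one for each fixed point. -/
def orbWords : List (List ℕ) := [[], [1], [4, 3, 2, 1, 3, 4], [4, 3, 2, 1, 6, 3, 4], [5, 3, 2, 1, 3, 5], [6, 3, 2, 3, 6, 4, 3, 2, 1, 3, 4], [0, 1, 2, 3, 2, 3, 6, 3, 2, 3, 2, 1], [1, 2, 3, 2, 3, 6, 3, 2, 3, 2, 1], [2, 3, 2, 3, 6, 3, 2, 3, 2, 1], [4, 3, 6, 3, 4], [1, 2, 3, 2, 3, 5, 3, 2, 3, 2, 1], [1, 4, 3, 6, 3, 4],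 [2, 3, 2, 3, 5, 3, 2, 3, 2, 1], [2, 3, 2, 3, 6, 5, 3, 2, 3, 2, 1], [6, 3, 2, 3, 6], [6, 3, 2, 1, 3, 6], [5, 3, 2, 3, 5, 4, 3, 2, 1, 3, 4], [1, 2, 3, 2, 3, 6, 5, 3, 2, 3, 2, 1], [1, 4, 3, 2, 1, 3, 4, 6, 3, 2, 1, 3, 6], [1, 6, 3, 2, 3, 6], [6, 3, 2, 4, 3, 6], [1, 6, 3, 2, 1, 3, 6], [6, 3, 2, 1, 4, 3, 6], [1, 5, 3, 2, 3, 5, 4, 3, 2, 1, 3, 4], [2, 3, 2, 3, 4, 5, 3, 2, 3, 2, 1], [0, 1, 4, 3, 2, 1, 3, 4, 6, 3, 2, 1, 3, 6], [0, 5, 3, 2, 1, 3, 5, 2, 3, 2, 3, 6, 3, 2, 3, 2, 1], [4, 3, 2, 1, 3, 4, 6, 3, 2, 1, 3, 6], [0, 1, 6, 3, 2, 3, 6], [0, 1, 6, 3, 2, 1, 3, 6], [2, 3, 2, 3, 5, 6, 3, 2, 3, 2, 1], [2, 6, 3, 2, 3, 5, 6, 3, 2,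 3, 6, 5, 1], [5, 3, 2, 4, 3, 5, 6, 3, 2, 1, 3, 6], [5, 3, 2, 1, 3, 5, 2, 3, 2, 3, 6, 3, 2, 3, 2, 1], [0, 4, 3, 2, 1, 3, 4, 6, 3, 2, 1, 3, 6], [5, 3, 2, 1, 3, 5, 2, 3, 2, 3, 6, 5, 3, 2, 3, 2, 1], [1, 2, 6, 3, 2, 3, 5, 6, 3, 2, 3, 6, 5, 1], [1, 5, 3, 2, 1, 3, 5, 2, 3, 2, 3, 6, 3, 2, 3, 2, 1], [4, 3, 2, 1, 3, 4, 6, 3, 2, 3, 6], [5, 3, 2, 1, 3, 5, 4, 3, 2, 1, 3, 4, 6, 3, 2, 1, 3, 6], [0, 5, 3, 2, 1, 3, 5, 4, 3, 2, 1, 3, 4, 6, 3, 2, 1, 3, 6], [0, 4, 3, 2, 1, 3, 4, 6, 3, 2, 3, 6]]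

/-- What restricts the images of the base. -/
def modes : List Mode := [.fixd, .fixd, .fixd, .free, .free]

/-- Centralizing words. -/
def allowed0 : List (List ℕ) := [[], [3, 0, 1, 0, 1], [0], [0, 3, 0, 1, 0, 1], [3], [0, 1, 0, 1], [4, 3, 5, 3, 4], [4, 3, 5, 3, 4, 3, 0, 1, 0, 1], [4, 3, 2, 3, 4, 5, 3, 6, 1, 2, 3, 5, 4, 3, 2, 1, 6, 3, 5, 4, 3, 2, 3, 4], [4, 3, 2, 3, 4, 5, 3, 6, 1, 2, 3, 5, 4, 3, 2, 1, 6, 3, 5, 4, 3, 2, 3, 4, 3, 0, 1, 0, 1], [3, 0], [3, 0, 3, 0, 1, 0, 1], [4, 3, 5, 3, 0, 4], [4, 3, 5, 3, 0, 4, 3, 0, 1, 0, 1], [5, 3, 2, 6, 1, 2, 3, 5, 4, 3, 2, 1, 6, 3, 5, 2, 3, 2, 3, 5, 4, 3, 2, 3, 2], [5, 3, 2, 6, 1,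 2, 3, 5, 4, 3, 2, 1, 6, 3, 5, 2, 3, 2, 3, 5, 4, 3, 2, 3, 2, 3, 0, 1, 0, 1], [4, 3, 5, 3, 4, 3], [4, 3, 5, 3, 4, 0, 1, 0, 1], [4, 3, 2, 3, 4, 5, 3, 6, 1, 2, 3, 5, 4, 3, 2, 1, 6, 3, 5, 4, 3, 2, 3, 4, 3], [4, 3, 2, 3, 4, 5, 3, 6, 1, 2, 3, 5, 4, 3, 2, 1, 6, 3, 5, 4, 3, 2, 3, 4, 0, 1, 0, 1], [4, 3, 2, 3, 4, 5, 3, 6, 1, 2, 3, 5, 4, 3, 2, 1, 6, 3, 5, 4, 3, 2, 5, 3, 4], [4, 3, 2, 3, 4, 5, 3, 6, 1, 2, 3, 5, 4, 3, 2, 1, 6, 3, 5, 4, 3, 2, 5, 3, 4, 3, 0, 1, 0, 1], [2, 3, 2, 3, 4, 5, 3, 2, 3, 2, 5, 3, 6, 1, 2, 3, 5, 4, 3, 2, 1, 6, 2, 3, 5], [2, 3, 2, 3, 4, 5, 3, 2, 3, 2, 5, 3, 6, 1, 2, 3, 5, 4, 3, 2, 1, 6, 2, 3, 5, 3, 0, 1, 0, 1],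 [4, 3, 5, 2, 3, 4, 5, 3, 6, 1, 2, 3, 5, 4, 3, 2, 1, 6, 3, 5, 4, 3, 2, 3, 4], [4, 3, 5, 2, 3, 4, 5, 3, 6, 1, 2, 3, 5, 4, 3, 2, 1, 6, 3, 5, 4, 3, 2, 3, 4, 3, 0, 1, 0, 1], [4, 3, 5, 3, 0, 4, 3], [4, 3, 5, 3, 0, 4, 0, 1, 0, 1], [6, 3, 5, 2, 3, 4, 6, 3, 2, 5, 3, 6, 5, 3, 6, 1, 2, 3, 5, 4, 3, 2, 1, 6, 3, 5], [6, 3, 5, 2, 3, 4, 6, 3, 2, 5, 3, 6, 5, 3, 6, 1, 2, 3, 5, 4, 3, 2, 1, 6, 3, 5, 3, 0, 1, 0, 1], [0, 4, 3, 2, 3, 4, 5, 3, 6, 1, 2, 3, 5, 4, 3, 2, 1, 6, 3, 5, 4, 3, 2, 5, 3, 4], [0, 4, 3, 2, 3, 4, 5, 3, 6, 1, 2, 3, 5, 4, 3, 2, 1, 6, 3, 5, 4, 3, 2, 5, 3, 4, 3, 0, 1, 0, 1], [4, 3, 2, 3, 4], [4, 3, 2, 3, 4, 3, 0, 1, 0, 1], [4,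 3, 2, 3, 4, 0], [4, 3, 2, 3, 4, 0, 3, 0, 1, 0, 1], [4, 3, 2, 3, 4, 3], [4, 3, 2, 3, 4, 0, 1, 0, 1], [4, 3, 2, 5, 3, 4], [4, 3, 2, 5, 3, 4, 3, 0, 1, 0, 1], [5, 3, 6, 1, 2, 3, 5, 4, 3, 2, 1, 6, 3, 5, 4, 3, 2, 3, 4], [5, 3, 6, 1, 2, 3, 5, 4, 3, 2, 1, 6, 3, 5, 4, 3, 2, 3, 4, 3, 0, 1, 0, 1], [4, 3, 2, 3, 4, 3, 0], [4, 3, 2, 3, 4, 3, 0, 3, 0, 1, 0, 1], [4, 3, 2, 5, 3, 0, 4], [4, 3, 2, 5, 3, 0, 4, 3, 0, 1, 0, 1], [4, 3, 2, 3, 4, 5, 3, 2, 6, 1, 2, 3, 5, 4, 3, 2, 1, 6, 3, 5, 2, 3, 2, 3, 5, 4, 3, 2, 3, 2], [4, 3, 2, 3, 4, 5, 3, 2, 6, 1, 2, 3, 5, 4, 3, 2, 1, 6, 3, 5, 2, 3, 2, 3, 5, 4, 3, 2, 3, 2, 3, 0, 1, 0, 1], [4, 3, 2, 5, 3,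 4, 3], [4, 3, 2, 5, 3, 4, 0, 1, 0, 1], [5, 3, 6, 1, 2, 3, 5, 4, 3, 2, 1, 6, 3, 5, 4, 3, 2, 3, 4, 3], [5, 3, 6, 1, 2, 3, 5, 4, 3, 2, 1, 6, 3, 5, 4, 3, 2, 3, 4, 0, 1, 0, 1], [5, 3, 6, 1, 2, 3, 5, 4, 3, 2, 1, 6, 3, 5, 4, 3, 2, 5, 3, 4], [5, 3, 6, 1, 2, 3, 5, 4, 3, 2, 1, 6, 3, 5, 4, 3, 2, 5, 3, 4, 3, 0, 1, 0, 1], [4, 3, 2, 3, 4, 2, 3, 2, 3, 4, 5, 3, 2, 3, 2, 5, 3, 6, 1, 2, 3, 5, 4, 3, 2, 1, 6, 2, 3, 5], [4, 3, 2, 3, 4, 2, 3, 2, 3, 4, 5, 3, 2, 3, 2, 5, 3, 6, 1, 2, 3, 5, 4, 3, 2, 1, 6, 2, 3, 5, 3, 0, 1, 0, 1], [4, 3, 2, 5, 2, 3, 4, 5, 3, 6, 1, 2, 3, 5, 4, 3, 2, 1, 6, 3, 5, 4, 3, 2, 3, 4], [4, 3, 2, 5, 2, 3, 4, 5, 3, 6, 1,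 2, 3, 5, 4, 3, 2, 1, 6, 3, 5, 4, 3, 2, 3, 4, 3, 0, 1, 0, 1], [4, 3, 2, 5, 3, 0, 4, 3], [4, 3, 2, 5, 3, 0, 4, 0, 1, 0, 1], [4, 3, 2, 3, 4, 6, 3, 5, 2, 3, 4, 6, 3, 2, 5, 3, 6, 5, 3, 6, 1, 2, 3, 5, 4, 3, 2, 1, 6, 3, 5], [4, 3, 2, 3, 4, 6, 3, 5, 2, 3, 4, 6, 3, 2, 5, 3, 6, 5, 3, 6, 1, 2, 3, 5, 4, 3, 2, 1, 6, 3, 5, 3, 0, 1, 0, 1], [4, 3, 2, 3, 4, 0, 4, 3, 2, 3, 4, 5, 3, 6, 1, 2, 3, 5, 4, 3, 2, 1, 6, 3, 5, 4, 3, 2, 5, 3, 4], [4, 3, 2, 3, 4, 0, 4, 3, 2, 3, 4, 5, 3, 6, 1, 2, 3, 5, 4, 3, 2, 1, 6, 3, 5, 4, 3, 2, 5, 3, 4, 3, 0, 1, 0, 1]]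

/-- Centralizing words. -/
def allowed1 : List (List ℕ) := [[6, 2, 3, 2, 3, 6, 2, 3, 2, 3, 2, 6, 3, 2], [6, 2, 3, 2, 3, 6, 2, 3, 2, 3, 2, 6, 3, 2, 3, 0, 1, 0, 1], [6, 2, 3, 2, 3, 6, 2, 3, 2, 3, 2, 6, 3, 2, 0], [6, 2, 3, 2, 3, 6, 2, 3, 2, 3, 2, 6, 3, 2, 0, 3, 0, 1, 0, 1], [6, 2, 3, 2, 3, 6, 2, 3, 2, 3, 2, 6, 3, 2, 3], [6, 2, 3, 2, 3, 6, 2, 3, 2, 3, 2, 6, 3, 2, 0, 1, 0, 1], [6, 2, 3, 2, 3, 6, 2, 3, 2, 3, 2, 6, 3, 2, 4, 3, 5, 3, 4], [6, 2, 3, 2, 3, 6, 2, 3, 2, 3, 2, 6, 3, 2, 4, 3, 5, 3, 4, 3, 0, 1, 0, 1], [6, 2, 3, 2, 3, 6, 2, 3, 2, 3, 2, 6, 3, 2, 4, 3, 2, 3, 4, 5, 3, 6, 1, 2, 3, 5, 4, 3, 2, 1, 6, 3, 5, 4, 3, 2, 3, 4],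 [6, 2, 3, 2, 3, 6, 2, 3, 2, 3, 2, 6, 3, 2, 4, 3, 2, 3, 4, 5, 3, 6, 1, 2, 3, 5, 4, 3, 2, 1, 6, 3, 5, 4, 3, 2, 3, 4, 3, 0, 1, 0, 1], [6, 2, 3, 2, 3, 6, 2, 3, 2, 3, 2, 6, 3, 2, 3, 0], [6, 2, 3, 2, 3, 6, 2, 3, 2, 3, 2, 6, 3, 2, 3, 0, 3, 0, 1, 0, 1], [6, 2, 3, 2, 3, 6, 2, 3, 2, 3, 2, 6, 3, 2, 4, 3, 5, 3, 0, 4], [6, 2, 3, 2, 3, 6, 2, 3, 2, 3, 2, 6, 3, 2, 4, 3, 5, 3, 0, 4, 3, 0, 1, 0, 1], [6, 2, 3, 2, 3, 6, 2, 3, 2, 3, 2, 6, 3, 2, 5, 3, 2, 6, 1, 2, 3, 5, 4, 3, 2, 1, 6, 3, 5, 2, 3, 2, 3, 5, 4, 3, 2, 3, 2], [6, 2, 3, 2, 3, 6, 2, 3, 2, 3, 2, 6, 3, 2, 5, 3, 2, 6, 1, 2, 3, 5, 4, 3, 2, 1, 6, 3, 5, 2, 3, 2, 3, 5, 4, 3, 2, 3, 2, 3,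 0, 1, 0, 1], [6, 2, 3, 2, 3, 6, 2, 3, 2, 3, 2, 6, 3, 2, 4, 3, 5, 3, 4, 3], [6, 2, 3, 2, 3, 6, 2, 3, 2, 3, 2, 6, 3, 2, 4, 3, 5, 3, 4, 0, 1, 0, 1], [6, 2, 3, 2, 3, 6, 2, 3, 2, 3, 2, 6, 3, 2, 4, 3, 2, 3, 4, 5, 3, 6, 1, 2, 3, 5, 4, 3, 2, 1, 6, 3, 5, 4, 3, 2, 3, 4, 3], [6, 2, 3, 2, 3, 6, 2, 3, 2, 3, 2, 6, 3, 2, 4, 3, 2, 3, 4, 5, 3, 6, 1, 2, 3, 5, 4, 3, 2, 1, 6, 3, 5, 4, 3, 2, 3, 4, 0, 1, 0, 1], [6, 2, 3, 2, 3, 6, 2, 3, 2, 3, 2, 6, 3, 2, 4, 3, 2, 3, 4, 5, 3, 6, 1, 2, 3, 5, 4, 3, 2, 1, 6, 3, 5, 4, 3, 2, 5, 3, 4], [6, 2, 3, 2, 3, 6, 2, 3, 2, 3, 2, 6, 3, 2, 4, 3, 2, 3, 4, 5, 3, 6, 1, 2, 3, 5, 4, 3, 2, 1, 6, 3, 5, 4, 3, 2, 5,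 3, 4, 3, 0, 1, 0, 1], [6, 2, 3, 2, 3, 6, 2, 3, 2, 3, 2, 6, 2, 3, 4, 5, 3, 2, 3, 2, 5, 3, 6, 1, 2, 3, 5, 4, 3, 2, 1, 6, 2, 3, 5], [6, 2, 3, 2, 3, 6, 2, 3, 2, 3, 2, 6, 2, 3, 4, 5, 3, 2, 3, 2, 5, 3, 6, 1, 2, 3, 5, 4, 3, 2, 1, 6, 2, 3, 5, 3, 0, 1, 0, 1], [6, 2, 3, 2, 3, 6, 2, 3, 2, 3, 2, 6, 3, 2, 4, 3, 5, 2, 3, 4, 5, 3, 6, 1, 2, 3, 5, 4, 3, 2, 1, 6, 3, 5, 4, 3, 2, 3, 4], [6, 2, 3, 2, 3, 6, 2, 3, 2, 3, 2, 6, 3, 2, 4, 3, 5, 2, 3, 4, 5, 3, 6, 1, 2, 3, 5, 4, 3, 2, 1, 6, 3, 5, 4, 3, 2, 3, 4, 3, 0, 1, 0, 1], [6, 2, 3, 2, 3, 6, 2, 3, 2, 3, 2, 6, 3, 2, 4, 3, 5, 3, 0, 4, 3], [6, 2, 3, 2, 3, 6, 2, 3, 2, 3, 2, 6, 3, 2, 4, 3, 5, 3,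 0, 4, 0, 1, 0, 1], [6, 2, 3, 2, 3, 6, 2, 3, 2, 3, 2, 6, 3, 2, 6, 3, 5, 2, 3, 4, 6, 3, 2, 5, 3, 6, 5, 3, 6, 1, 2, 3, 5, 4, 3, 2, 1, 6, 3, 5], [6, 2, 3, 2, 3, 6, 2, 3, 2, 3, 2, 6, 3, 2, 6, 3, 5, 2, 3, 4, 6, 3, 2, 5, 3, 6, 5, 3, 6, 1, 2, 3, 5, 4, 3, 2, 1, 6, 3, 5, 3, 0, 1, 0, 1], [6, 2, 3, 2, 3, 6, 2, 3, 2, 3, 2, 6, 3, 2, 0, 4, 3, 2, 3, 4, 5, 3, 6, 1, 2, 3, 5, 4, 3, 2, 1, 6, 3, 5, 4, 3, 2, 5, 3, 4], [6, 2, 3, 2, 3, 6, 2, 3, 2, 3, 2, 6, 3, 2, 0, 4, 3, 2, 3, 4, 5, 3, 6, 1, 2, 3, 5, 4, 3, 2, 1, 6, 3, 5, 4, 3, 2, 5, 3, 4, 3, 0, 1, 0, 1], [5, 3, 2, 3, 5], [5, 3, 2, 3, 5, 3, 0, 1, 0, 1], [5, 3, 2, 3, 5, 0], [5, 3, 2, 3, 5, 0,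 3, 0, 1, 0, 1], [5, 3, 2, 3, 5, 3], [5, 3, 2, 3, 5, 0, 1, 0, 1], [5, 3, 2, 3, 5, 4, 3, 5, 3, 4], [5, 3, 2, 3, 5, 4, 3, 5, 3, 4, 3, 0, 1, 0, 1], [5, 3, 2, 3, 5, 4, 3, 2, 3, 4, 5, 3, 6, 1, 2, 3, 5, 4, 3, 2, 1, 6, 3, 5, 4, 3, 2, 3, 4], [5, 3, 2, 3, 5, 4, 3, 2, 3, 4, 5, 3, 6, 1, 2, 3, 5, 4, 3, 2, 1, 6, 3, 5, 4, 3, 2, 3, 4, 3, 0, 1, 0, 1], [5, 3, 2, 3, 5, 3, 0], [5, 3, 2, 3, 5, 3, 0, 3, 0, 1, 0, 1], [5, 3, 2, 3, 5, 4, 3, 5, 3, 0, 4], [5, 3, 2, 3, 5, 4, 3, 5, 3, 0, 4, 3, 0, 1, 0, 1], [5, 3, 6, 1, 2, 3, 5, 4, 3, 2, 1, 6, 3, 5, 2, 3, 2, 3, 5, 4, 3, 2, 3, 2], [5, 3, 6, 1, 2, 3, 5, 4, 3, 2, 1, 6, 3, 5, 2, 3, 2, 3, 5, 4, 3, 2,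 3, 2, 3, 0, 1, 0, 1], [5, 3, 2, 3, 5, 4, 3, 5, 3, 4, 3], [5, 3, 2, 3, 5, 4, 3, 5, 3, 4, 0, 1, 0, 1], [5, 3, 2, 3, 5, 4, 3, 2, 3, 4, 5, 3, 6, 1, 2, 3, 5, 4, 3, 2, 1, 6, 3, 5, 4, 3, 2, 3, 4, 3], [5, 3, 2, 3, 5, 4, 3, 2, 3, 4, 5, 3, 6, 1, 2, 3, 5, 4, 3, 2, 1, 6, 3, 5, 4, 3, 2, 3, 4, 0, 1, 0, 1], [5, 3, 2, 3, 5, 4, 3, 2, 3, 4, 5, 3, 6, 1, 2, 3, 5, 4, 3, 2, 1, 6, 3, 5, 4, 3, 2, 5, 3, 4], [5, 3, 2, 3, 5, 4, 3, 2, 3, 4, 5, 3, 6, 1, 2, 3, 5, 4, 3, 2, 1, 6, 3, 5, 4, 3, 2, 5, 3, 4, 3, 0, 1, 0, 1], [5, 3, 2, 3, 5, 2, 3, 2, 3, 4, 5, 3, 2, 3, 2, 5, 3, 6, 1, 2, 3, 5, 4, 3, 2, 1, 6, 2, 3, 5], [5, 3, 2, 3, 5, 2, 3, 2, 3, 4, 5, 3, 2,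 3, 2, 5, 3, 6, 1, 2, 3, 5, 4, 3, 2, 1, 6, 2, 3, 5, 3, 0, 1, 0, 1], [5, 3, 2, 3, 5, 4, 3, 5, 2, 3, 4, 5, 3, 6, 1, 2, 3, 5, 4, 3, 2, 1, 6, 3, 5, 4, 3, 2, 3, 4], [5, 3, 2, 3, 5, 4, 3, 5, 2, 3, 4, 5, 3, 6, 1, 2, 3, 5, 4, 3, 2, 1, 6, 3, 5, 4, 3, 2, 3, 4, 3, 0, 1, 0, 1], [5, 3, 2, 3, 5, 4, 3, 5, 3, 0, 4, 3], [5, 3, 2, 3, 5, 4, 3, 5, 3, 0, 4, 0, 1, 0, 1], [5, 3, 2, 3, 5, 6, 3, 5, 2, 3, 4, 6, 3, 2, 5, 3, 6, 5, 3, 6, 1, 2, 3, 5, 4, 3, 2, 1, 6, 3, 5], [5, 3, 2, 3, 5, 6, 3, 5, 2, 3, 4, 6, 3, 2, 5, 3, 6, 5, 3, 6, 1, 2, 3, 5, 4, 3, 2, 1, 6, 3, 5, 3, 0, 1, 0, 1], [5, 3, 2, 3, 5, 0, 4, 3, 2, 3, 4, 5, 3, 6, 1, 2, 3, 5, 4, 3, 2, 1, 6,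 3, 5, 4, 3, 2, 5, 3, 4], [5, 3, 2, 3, 5, 0, 4, 3, 2, 3, 4, 5, 3, 6, 1, 2, 3, 5, 4, 3, 2, 1, 6, 3, 5, 4, 3, 2, 5, 3, 4, 3, 0, 1, 0, 1]]

/-- Centralizing words. -/
def allowed2 : List (List ℕ) := [[4, 3, 2, 3, 4, 6, 3, 1, 2, 3, 6, 5, 3, 2, 1, 2, 3, 5, 6, 3, 2, 1, 3, 6], [4, 3, 2, 3, 4, 6, 3, 1, 2, 3, 6, 5, 3, 2, 1, 2, 3, 5, 6, 3, 2, 1, 3, 6, 3, 0, 1, 0, 1], [4, 3, 2, 3, 4, 6, 3, 1, 2, 3, 6, 5, 3, 2, 1, 2, 3, 5, 6, 3, 2, 1, 3, 6, 0], [4, 3, 2, 3, 4, 6, 3, 1, 2, 3, 6, 5, 3, 2, 1, 2, 3, 5, 6, 3, 2, 1, 3, 6, 0, 3, 0, 1, 0, 1], [4, 3, 2, 3, 4, 6, 3, 1, 2, 3, 6, 5, 3, 2, 1, 2, 3, 5, 6, 3, 2, 1, 3, 6, 3], [4, 3, 2, 3, 4, 6,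 3, 1, 2, 3, 6, 5, 3, 2, 1, 2, 3, 5, 6, 3, 2, 1, 3, 6, 0, 1, 0, 1], [4, 3, 2, 3, 4, 6, 3, 1, 2, 3, 6, 5, 3, 2, 1, 2, 3, 5, 6, 3, 2, 1, 3, 6, 4, 3, 5, 3, 4], [4, 3, 2, 3, 4, 6, 3, 1, 2, 3, 6, 5, 3, 2, 1, 2, 3, 5, 6, 3, 2, 1, 3, 6, 4, 3, 5, 3, 4, 3, 0, 1, 0, 1], [4, 3, 2, 3, 4, 6, 3, 1, 2, 3, 6, 5, 3, 2, 1, 2, 3, 5, 6, 3, 2, 1, 3, 6, 4, 3, 2, 3, 4, 5, 3, 6, 1, 2, 3, 5, 4, 3, 2, 1, 6, 3, 5, 4, 3, 2, 3, 4], [4, 3, 2, 3, 4, 6, 3, 1, 2, 3, 6, 5, 3, 2, 1, 2, 3, 5, 6, 3, 2, 1, 3, 6, 4, 3, 2, 3, 4, 5, 3, 6, 1, 2, 3, 5, 4, 3, 2, 1, 6, 3, 5, 4, 3, 2, 3, 4, 3, 0, 1, 0, 1], [4, 3, 2, 3, 4, 6, 3, 1, 2, 3, 6, 5, 3, 2, 1, 2, 3, 5, 6,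 3, 2, 1, 3, 6, 3, 0], [4, 3, 2, 3, 4, 6, 3, 1, 2, 3, 6, 5, 3, 2, 1, 2, 3, 5, 6, 3, 2, 1, 3, 6, 3, 0, 3, 0, 1, 0, 1], [4, 3, 2, 3, 4, 6, 3, 1, 2, 3, 6, 5, 3, 2, 1, 2, 3, 5, 6, 3, 2, 1, 3, 6, 4, 3, 5, 3, 0, 4], [4, 3, 2, 3, 4, 6, 3, 1, 2, 3, 6, 5, 3, 2, 1, 2, 3, 5, 6, 3, 2, 1, 3, 6, 4, 3, 5, 3, 0, 4, 3, 0, 1, 0, 1], [4, 3, 2, 3, 4, 6, 3, 1, 2, 3, 6, 5, 3, 2, 1, 2, 3, 5, 6, 3, 2, 1, 3, 6, 5, 3, 2, 6, 1, 2, 3, 5, 4, 3, 2, 1, 6, 3, 5, 2, 3, 2, 3, 5, 4, 3, 2, 3, 2], [4, 3, 2, 3, 4, 6, 3, 1, 2, 3, 6, 5, 3, 2, 1, 2, 3, 5, 6, 3, 2, 1, 3, 6, 5, 3, 2, 6, 1, 2, 3, 5, 4, 3, 2, 1, 6, 3, 5, 2, 3, 2, 3, 5, 4, 3, 2, 3, 2, 3, 0, 1, 0,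 1], [4, 3, 2, 3, 4, 6, 3, 1, 2, 3, 6, 5, 3, 2, 1, 2, 3, 5, 6, 3, 2, 1, 3, 6, 4, 3, 5, 3, 4, 3], [4, 3, 2, 3, 4, 6, 3, 1, 2, 3, 6, 5, 3, 2, 1, 2, 3, 5, 6, 3, 2, 1, 3, 6, 4, 3, 5, 3, 4, 0, 1, 0, 1], [4, 3, 2, 3, 4, 6, 3, 1, 2, 3, 6, 5, 3, 2, 1, 2, 3, 5, 6, 3, 2, 1, 3, 6, 4, 3, 2, 3, 4, 5, 3, 6, 1, 2, 3, 5, 4, 3, 2, 1, 6, 3, 5, 4, 3, 2, 3, 4, 3], [4, 3, 2, 3, 4, 6, 3, 1, 2, 3, 6, 5, 3, 2, 1, 2, 3, 5, 6, 3, 2, 1, 3, 6, 4, 3, 2, 3, 4, 5, 3, 6, 1, 2, 3, 5, 4, 3, 2, 1, 6, 3, 5, 4, 3, 2, 3, 4, 0, 1, 0, 1], [4, 3, 2, 3, 4, 6, 3, 1, 2, 3, 6, 5, 3, 2, 1, 2, 3, 5, 6, 3, 2, 1, 3, 6, 4, 3, 2, 3, 4, 5, 3, 6, 1, 2, 3, 5, 4, 3, 2, 1,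 6, 3, 5, 4, 3, 2, 5, 3, 4], [4, 3, 2, 3, 4, 6, 3, 1, 2, 3, 6, 5, 3, 2, 1, 2, 3, 5, 6, 3, 2, 1, 3, 6, 4, 3, 2, 3, 4, 5, 3, 6, 1, 2, 3, 5, 4, 3, 2, 1, 6, 3, 5, 4, 3, 2, 5, 3, 4, 3, 0, 1, 0, 1], [4, 3, 2, 3, 4, 6, 3, 1, 2, 3, 6, 5, 3, 2, 1, 2, 3, 5, 6, 3, 2, 1, 3, 6, 2, 3, 2, 3, 4, 5, 3, 2, 3, 2, 5, 3, 6, 1, 2, 3, 5, 4, 3, 2, 1, 6, 2, 3, 5], [4, 3, 2, 3, 4, 6, 3, 1, 2, 3, 6, 5, 3, 2, 1, 2, 3, 5, 6, 3, 2, 1, 3, 6, 2, 3, 2, 3, 4, 5, 3, 2, 3, 2, 5, 3, 6, 1, 2, 3, 5, 4, 3, 2, 1, 6, 2, 3, 5, 3, 0, 1, 0, 1], [4, 3, 2, 3, 4, 6, 3, 1, 2, 3, 6, 5, 3, 2, 1, 2, 3, 5, 6, 3, 2, 1, 3, 6, 4, 3, 5, 2, 3, 4, 5, 3, 6, 1, 2, 3, 5, 4, 3, 2,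 1, 6, 3, 5, 4, 3, 2, 3, 4], [4, 3, 2, 3, 4, 6, 3, 1, 2, 3, 6, 5, 3, 2, 1, 2, 3, 5, 6, 3, 2, 1, 3, 6, 4, 3, 5, 2, 3, 4, 5, 3, 6, 1, 2, 3, 5, 4, 3, 2, 1, 6, 3, 5, 4, 3, 2, 3, 4, 3, 0, 1, 0, 1], [4, 3, 2, 3, 4, 6, 3, 1, 2, 3, 6, 5, 3, 2, 1, 2, 3, 5, 6, 3, 2, 1, 3, 6, 4, 3, 5, 3, 0, 4, 3], [4, 3, 2, 3, 4, 6, 3, 1, 2, 3, 6, 5, 3, 2, 1, 2, 3, 5, 6, 3, 2, 1, 3, 6, 4, 3, 5, 3, 0, 4, 0, 1, 0, 1], [4, 3, 2, 3, 4, 6, 3, 1, 2, 3, 6, 5, 3, 2, 1, 2, 3, 5, 6, 3, 2, 1, 5, 2, 3, 4, 6, 3, 2, 5, 3, 6, 5, 3, 6, 1, 2, 3, 5, 4, 3, 2, 1, 6, 3, 5], [4, 3, 2, 3, 4, 6, 3, 1, 2, 3, 6, 5, 3, 2, 1, 2, 3, 5, 6, 3, 2, 1, 5, 2, 3, 4, 6, 3, 2, 5, 3,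 6, 5, 3, 6, 1, 2, 3, 5, 4, 3, 2, 1, 6, 3, 5, 3, 0, 1, 0, 1], [4, 3, 2, 3, 4, 6, 3, 1, 2, 3, 6, 5, 3, 2, 1, 2, 3, 5, 6, 3, 2, 1, 3, 6, 0, 4, 3, 2, 3, 4, 5, 3, 6, 1, 2, 3, 5, 4, 3, 2, 1, 6, 3, 5, 4, 3, 2, 5, 3, 4], [4, 3, 2, 3, 4, 6, 3, 1, 2, 3, 6, 5, 3, 2, 1, 2, 3, 5, 6, 3, 2, 1, 3, 6, 0, 4, 3, 2, 3, 4, 5, 3, 6, 1, 2, 3, 5, 4, 3, 2, 1, 6, 3, 5, 4, 3, 2, 5, 3, 4, 3, 0, 1, 0, 1], [4, 3, 2, 3, 4, 6, 3, 0, 1, 2, 3, 6, 5, 3, 2, 1, 2, 3, 5, 6, 3, 2, 1, 3, 6], [4, 3, 2, 3, 4, 6, 3, 0, 1, 2, 3, 6, 5, 3, 2, 1, 2, 3, 5, 6, 3, 2, 1, 3, 6, 3, 0, 1, 0, 1], [4, 3, 2, 3, 4, 6, 3, 0, 1, 2, 3, 6, 5, 3, 2, 1, 2, 3, 5, 6, 3, 2, 1, 3, 6,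 0], [4, 3, 2, 3, 4, 6, 3, 0, 1, 2, 3, 6, 5, 3, 2, 1, 2, 3, 5, 6, 3, 2, 1, 3, 6, 0, 3, 0, 1, 0, 1], [4, 3, 2, 3, 4, 6, 3, 0, 1, 2, 3, 6, 5, 3, 2, 1, 2, 3, 5, 6, 3, 2, 1, 3, 6, 3], [4, 3, 2, 3, 4, 6, 3, 0, 1, 2, 3, 6, 5, 3, 2, 1, 2, 3, 5, 6, 3, 2, 1, 3, 6, 0, 1, 0, 1], [4, 3, 2, 3, 4, 6, 3, 0, 1, 2, 3, 6, 5, 3, 2, 1, 2, 3, 5, 6, 3, 2, 1, 3, 6, 4, 3, 5, 3, 4], [4, 3, 2, 3, 4, 6, 3, 0, 1, 2, 3, 6, 5, 3, 2, 1, 2, 3, 5, 6, 3, 2, 1, 3, 6, 4, 3, 5, 3, 4, 3, 0, 1, 0, 1], [4, 3, 2, 3, 4, 6, 3, 0, 1, 2, 3, 6, 5, 3, 2, 1, 2, 3, 5, 6, 3, 2, 1, 3, 6, 4, 3, 2, 3, 4, 5, 3, 6, 1, 2, 3, 5, 4, 3, 2, 1, 6, 3, 5, 4, 3, 2, 3, 4], [4, 3, 2,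 3, 4, 6, 3, 0, 1, 2, 3, 6, 5, 3, 2, 1, 2, 3, 5, 6, 3, 2, 1, 3, 6, 4, 3, 2, 3, 4, 5, 3, 6, 1, 2, 3, 5, 4, 3, 2, 1, 6, 3, 5, 4, 3, 2, 3, 4, 3, 0, 1, 0, 1], [4, 3, 2, 3, 4, 6, 3, 0, 1, 2, 3, 6, 5, 3, 2, 1, 2, 3, 5, 6, 3, 2, 1, 3, 6, 3, 0], [4, 3, 2, 3, 4, 6, 3, 0, 1, 2, 3, 6, 5, 3, 2, 1, 2, 3, 5, 6, 3, 2, 1, 3, 6, 3, 0, 3, 0, 1, 0, 1], [4, 3, 2, 3, 4, 6, 3, 0, 1, 2, 3, 6, 5, 3, 2, 1, 2, 3, 5, 6, 3, 2, 1, 3, 6, 4, 3, 5, 3, 0, 4], [4, 3, 2, 3, 4, 6, 3, 0, 1, 2, 3, 6, 5, 3, 2, 1, 2, 3, 5, 6, 3, 2, 1, 3, 6, 4, 3, 5, 3, 0, 4, 3, 0, 1, 0, 1], [4, 3, 2, 3, 4, 6, 3, 0, 1, 2, 3, 6, 5, 3, 2, 1, 2, 3, 5, 6, 3, 2, 1, 3, 6, 5, 3, 2,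 6, 1, 2, 3, 5, 4, 3, 2, 1, 6, 3, 5, 2, 3, 2, 3, 5, 4, 3, 2, 3, 2], [4, 3, 2, 3, 4, 6, 3, 0, 1, 2, 3, 6, 5, 3, 2, 1, 2, 3, 5, 6, 3, 2, 1, 3, 6, 5, 3, 2, 6, 1, 2, 3, 5, 4, 3, 2, 1, 6, 3, 5, 2, 3, 2, 3, 5, 4, 3, 2, 3, 2, 3, 0, 1, 0, 1], [4, 3, 2, 3, 4, 6, 3, 0, 1, 2, 3, 6, 5, 3, 2, 1, 2, 3, 5, 6, 3, 2, 1, 3, 6, 4, 3, 5, 3, 4, 3], [4, 3, 2, 3, 4, 6, 3, 0, 1, 2, 3, 6, 5, 3, 2, 1, 2, 3, 5, 6, 3, 2, 1, 3, 6, 4, 3, 5, 3, 4, 0, 1, 0, 1], [4, 3, 2, 3, 4, 6, 3, 0, 1, 2, 3, 6, 5, 3, 2, 1, 2, 3, 5, 6, 3, 2, 1, 3, 6, 4, 3, 2, 3, 4, 5, 3, 6, 1, 2, 3, 5, 4, 3, 2, 1, 6, 3, 5, 4, 3, 2, 3, 4, 3], [4, 3, 2, 3, 4, 6, 3, 0, 1, 2, 3, 6, 5,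 3, 2, 1, 2, 3, 5, 6, 3, 2, 1, 3, 6, 4, 3, 2, 3, 4, 5, 3, 6, 1, 2, 3, 5, 4, 3, 2, 1, 6, 3, 5, 4, 3, 2, 3, 4, 0, 1, 0, 1], [4, 3, 2, 3, 4, 6, 3, 0, 1, 2, 3, 6, 5, 3, 2, 1, 2, 3, 5, 6, 3, 2, 1, 3, 6, 4, 3, 2, 3, 4, 5, 3, 6, 1, 2, 3, 5, 4, 3, 2, 1, 6, 3, 5, 4, 3, 2, 5, 3, 4], [4, 3, 2, 3, 4, 6, 3, 0, 1, 2, 3, 6, 5, 3, 2, 1, 2, 3, 5, 6, 3, 2, 1, 3, 6, 4, 3, 2, 3, 4, 5, 3, 6, 1, 2, 3, 5, 4, 3, 2, 1, 6, 3, 5, 4, 3, 2, 5, 3, 4, 3, 0, 1, 0, 1], [4, 3, 2, 3, 4, 6, 3, 0, 1, 2, 3, 6, 5, 3, 2, 1, 2, 3, 5, 6, 3, 2, 1, 3, 6, 2, 3, 2, 3, 4, 5, 3, 2, 3, 2, 5, 3, 6, 1, 2, 3, 5, 4, 3, 2, 1, 6, 2, 3, 5], [4, 3, 2, 3, 4, 6, 3, 0, 1, 2, 3,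 6, 5, 3, 2, 1, 2, 3, 5, 6, 3, 2, 1, 3, 6, 2, 3, 2, 3, 4, 5, 3, 2, 3, 2, 5, 3, 6, 1, 2, 3, 5, 4, 3, 2, 1, 6, 2, 3, 5, 3, 0, 1, 0, 1], [4, 3, 2, 3, 4, 6, 3, 0, 1, 2, 3, 6, 5, 3, 2, 1, 2, 3, 5, 6, 3, 2, 1, 3, 6, 4, 3, 5, 2, 3, 4, 5, 3, 6, 1, 2, 3, 5, 4, 3, 2, 1, 6, 3, 5, 4, 3, 2, 3, 4], [4, 3, 2, 3, 4, 6, 3, 0, 1, 2, 3, 6, 5, 3, 2, 1, 2, 3, 5, 6, 3, 2, 1, 3, 6, 4, 3, 5, 2, 3, 4, 5, 3, 6, 1, 2, 3, 5, 4, 3, 2, 1, 6, 3, 5, 4, 3, 2, 3, 4, 3, 0, 1, 0, 1], [4, 3, 2, 3, 4, 6, 3, 0, 1, 2, 3, 6, 5, 3, 2, 1, 2, 3, 5, 6, 3, 2, 1, 3, 6, 4, 3, 5, 3, 0, 4, 3], [4, 3, 2, 3, 4, 6, 3, 0, 1, 2, 3, 6, 5, 3, 2, 1, 2, 3, 5, 6, 3, 2, 1, 3, 6,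 4, 3, 5, 3, 0, 4, 0, 1, 0, 1], [4, 3, 2, 3, 4, 6, 3, 0, 1, 2, 3, 6, 5, 3, 2, 1, 2, 3, 5, 6, 3, 2, 1, 5, 2, 3, 4, 6, 3, 2, 5, 3, 6, 5, 3, 6, 1, 2, 3, 5, 4, 3, 2, 1, 6, 3, 5], [4, 3, 2, 3, 4, 6, 3, 0, 1, 2, 3, 6, 5, 3, 2, 1, 2, 3, 5, 6, 3, 2, 1, 5, 2, 3, 4, 6, 3, 2, 5, 3, 6, 5, 3, 6, 1, 2, 3, 5, 4, 3, 2, 1, 6, 3, 5, 3, 0, 1, 0, 1], [4, 3, 2, 3, 4, 6, 3, 0, 1, 2, 3, 6, 5, 3, 2, 1, 2, 3, 5, 6, 3, 2, 1, 3, 6, 0, 4, 3, 2, 3, 4, 5, 3, 6, 1, 2, 3, 5, 4, 3, 2, 1, 6, 3, 5, 4, 3, 2, 5, 3, 4], [4, 3, 2, 3, 4, 6, 3, 0, 1, 2, 3, 6, 5, 3, 2, 1, 2, 3, 5, 6, 3, 2, 1, 3, 6, 0, 4, 3, 2, 3, 4, 5, 3, 6, 1, 2, 3, 5, 4, 3, 2, 1, 6, 3, 5, 4,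 3, 2, 5, 3, 4, 3, 0, 1, 0, 1]]

/-- Centralizing words. -/
def allowed3 : List (List ℕ) := [[6, 3, 5, 2, 3, 6, 4, 3, 2, 5, 3, 6], [6, 3, 5, 2, 3, 6, 4, 3, 2, 5, 3, 6, 3, 0, 1, 0, 1], [6, 3, 5, 2, 3, 6, 4, 3, 2, 5, 3, 6, 0], [6, 3, 5, 2, 3, 6, 4, 3, 2, 5, 3, 6, 0, 3, 0, 1, 0, 1], [6, 3, 5, 2, 3, 6, 4, 3, 2, 5, 3, 6, 3], [6, 3, 5, 2, 3, 6, 4, 3, 2, 5, 3, 6, 0, 1, 0, 1], [6, 3, 5, 2, 3, 6, 4, 3, 2, 5, 3, 6, 4, 3, 5, 3, 4], [6, 3, 5, 2, 3, 6, 4, 3, 2, 5, 3, 6, 4, 3, 5, 3, 4, 3, 0, 1, 0, 1], [6, 3, 5, 2, 3, 6, 4, 3, 2, 5, 3, 6, 4, 3, 2, 3, 4, 5, 3, 6, 1, 2, 3, 5, 4, 3, 2, 1, 6, 3, 5, 4, 3, 2, 3, 4], [6, 3, 5, 2, 3, 6, 4,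 3, 2, 5, 3, 6, 4, 3, 2, 3, 4, 5, 3, 6, 1, 2, 3, 5, 4, 3, 2, 1, 6, 3, 5, 4, 3, 2, 3, 4, 3, 0, 1, 0, 1], [6, 3, 5, 2, 3, 6, 4, 3, 2, 5, 3, 6, 3, 0], [6, 3, 5, 2, 3, 6, 4, 3, 2, 5, 3, 6, 3, 0, 3, 0, 1, 0, 1], [6, 3, 5, 2, 3, 6, 4, 3, 2, 5, 3, 6, 4, 3, 5, 3, 0, 4], [6, 3, 5, 2, 3, 6, 4, 3, 2, 5, 3, 6, 4, 3, 5, 3, 0, 4, 3, 0, 1, 0, 1], [6, 3, 5, 2, 3, 6, 4, 3, 2, 5, 3, 6, 5, 3, 2, 6, 1, 2, 3, 5, 4, 3, 2, 1, 6, 3, 5, 2, 3, 2, 3, 5, 4, 3, 2, 3, 2], [6, 3, 5, 2, 3, 6, 4, 3, 2, 5, 3, 6, 5, 3, 2, 6, 1, 2, 3, 5, 4, 3, 2, 1, 6, 3, 5, 2, 3, 2, 3, 5, 4, 3, 2, 3, 2, 3, 0, 1, 0, 1], [6, 3, 5, 2, 3, 6, 4, 3, 2, 5, 3, 6, 4, 3, 5, 3, 4,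 3], [6, 3, 5, 2, 3, 6, 4, 3, 2, 5, 3, 6, 4, 3, 5, 3, 4, 0, 1, 0, 1], [6, 3, 5, 2, 3, 6, 4, 3, 2, 5, 3, 6, 4, 3, 2, 3, 4, 5, 3, 6, 1, 2, 3, 5, 4, 3, 2, 1, 6, 3, 5, 4, 3, 2, 3, 4, 3], [6, 3, 5, 2, 3, 6, 4, 3, 2, 5, 3, 6, 4, 3, 2, 3, 4, 5, 3, 6, 1, 2, 3, 5, 4, 3, 2, 1, 6, 3, 5, 4, 3, 2, 3, 4, 0, 1, 0, 1], [6, 3, 5, 2, 3, 6, 4, 3, 2, 5, 3, 6, 4, 3, 2, 3, 4, 5, 3, 6, 1, 2, 3, 5, 4, 3, 2, 1, 6, 3, 5, 4, 3, 2, 5, 3, 4], [6, 3, 5, 2, 3, 6, 4, 3, 2, 5, 3, 6, 4, 3, 2, 3, 4, 5, 3, 6, 1, 2, 3, 5, 4, 3, 2, 1, 6, 3, 5, 4, 3, 2, 5, 3, 4, 3, 0, 1, 0, 1], [6, 3, 5, 2, 3, 6, 4, 3, 2, 5, 3, 6, 2, 3, 2, 3, 4, 5, 3, 2, 3, 2, 5, 3, 6, 1,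 2, 3, 5, 4, 3, 2, 1, 6, 2, 3, 5], [6, 3, 5, 2, 3, 6, 4, 3, 2, 5, 3, 6, 2, 3, 2, 3, 4, 5, 3, 2, 3, 2, 5, 3, 6, 1, 2, 3, 5, 4, 3, 2, 1, 6, 2, 3, 5, 3, 0, 1, 0, 1], [6, 3, 5, 2, 3, 6, 4, 3, 2, 5, 3, 6, 4, 3, 5, 2, 3, 4, 5, 3, 6, 1, 2, 3, 5, 4, 3, 2, 1, 6, 3, 5, 4, 3, 2, 3, 4], [6, 3, 5, 2, 3, 6, 4, 3, 2, 5, 3, 6, 4, 3, 5, 2, 3, 4, 5, 3, 6, 1, 2, 3, 5, 4, 3, 2, 1, 6, 3, 5, 4, 3, 2, 3, 4, 3, 0, 1, 0, 1], [6, 3, 5, 2, 3, 6, 4, 3, 2, 5, 3, 6, 4, 3, 5, 3, 0, 4, 3], [6, 3, 5, 2, 3, 6, 4, 3, 2, 5, 3, 6, 4, 3, 5, 3, 0, 4, 0, 1, 0, 1], [5, 3, 6, 1, 2, 3, 5, 4, 3, 2, 1, 6, 3, 5], [5, 3, 6, 1, 2, 3, 5, 4, 3, 2, 1, 6, 3, 5, 3, 0, 1,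 0, 1], [6, 3, 5, 2, 3, 6, 4, 3, 2, 5, 3, 6, 0, 4, 3, 2, 3, 4, 5, 3, 6, 1, 2, 3, 5, 4, 3, 2, 1, 6, 3, 5, 4, 3, 2, 5, 3, 4], [6, 3, 5, 2, 3, 6, 4, 3, 2, 5, 3, 6, 0, 4, 3, 2, 3, 4, 5, 3, 6, 1, 2, 3, 5, 4, 3, 2, 1, 6, 3, 5, 4, 3, 2, 5, 3, 4, 3, 0, 1, 0, 1], [2, 3, 2, 3, 5, 3, 2, 3, 2], [2, 3, 2, 3, 5, 3, 2, 3, 2, 3, 0, 1, 0, 1], [2, 3, 2, 3, 5, 3, 2, 3, 2, 0], [2, 3, 2, 3, 5, 3, 2, 3, 2, 0, 3, 0, 1, 0, 1], [2, 3, 2, 3, 5, 3, 2, 3, 2, 3], [2, 3, 2, 3, 5, 3, 2, 3, 2, 0, 1, 0, 1], [2, 3, 2, 3, 5, 3, 2, 3, 2, 4, 3, 5, 3, 4], [2, 3, 2, 3, 5, 3, 2, 3, 2, 4, 3, 5, 3, 4, 3, 0, 1, 0, 1], [2, 3, 2, 3, 5, 3, 2, 3, 2, 4, 3, 2, 3, 4,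 5, 3, 6, 1, 2, 3, 5, 4, 3, 2, 1, 6, 3, 5, 4, 3, 2, 3, 4], [2, 3, 2, 3, 5, 3, 2, 3, 2, 4, 3, 2, 3, 4, 5, 3, 6, 1, 2, 3, 5, 4, 3, 2, 1, 6, 3, 5, 4, 3, 2, 3, 4, 3, 0, 1, 0, 1], [2, 3, 2, 3, 5, 3, 2, 3, 2, 3, 0], [2, 3, 2, 3, 5, 3, 2, 3, 2, 3, 0, 3, 0, 1, 0, 1], [2, 3, 2, 3, 5, 3, 2, 3, 2, 4, 3, 5, 3, 0, 4], [2, 3, 2, 3, 5, 3, 2, 3, 2, 4, 3, 5, 3, 0, 4, 3, 0, 1, 0, 1], [2, 3, 2, 3, 5, 3, 2, 3, 2, 5, 3, 2, 6, 1, 2, 3, 5, 4, 3, 2, 1, 6, 3, 5, 2, 3, 2, 3, 5, 4, 3, 2, 3, 2], [2, 3, 2, 3, 5, 3, 2, 3, 2, 5, 3, 2, 6, 1, 2, 3, 5, 4, 3, 2, 1, 6, 3, 5, 2, 3, 2, 3, 5, 4, 3, 2, 3, 2, 3, 0, 1, 0, 1], [2, 3, 2, 3, 5, 3, 2, 3, 2, 4, 3,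 5, 3, 4, 3], [2, 3, 2, 3, 5, 3, 2, 3, 2, 4, 3, 5, 3, 4, 0, 1, 0, 1], [2, 3, 2, 3, 5, 3, 2, 3, 2, 4, 3, 2, 3, 4, 5, 3, 6, 1, 2, 3, 5, 4, 3, 2, 1, 6, 3, 5, 4, 3, 2, 3, 4, 3], [2, 3, 2, 3, 5, 3, 2, 3, 2, 4, 3, 2, 3, 4, 5, 3, 6, 1, 2, 3, 5, 4, 3, 2, 1, 6, 3, 5, 4, 3, 2, 3, 4, 0, 1, 0, 1], [2, 3, 2, 3, 5, 3, 2, 3, 2, 4, 3, 2, 3, 4, 5, 3, 6, 1, 2, 3, 5, 4, 3, 2, 1, 6, 3, 5, 4, 3, 2, 5, 3, 4], [2, 3, 2, 3, 5, 3, 2, 3, 2, 4, 3, 2, 3, 4, 5, 3, 6, 1, 2, 3, 5, 4, 3, 2, 1, 6, 3, 5, 4, 3, 2, 5, 3, 4, 3, 0, 1, 0, 1], [2, 3, 2, 3, 5, 4, 5, 3, 2, 3, 2, 5, 3, 6, 1, 2, 3, 5, 4, 3, 2, 1, 6, 2, 3, 5], [2, 3, 2, 3, 5, 4, 5, 3, 2, 3, 2, 5,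 3, 6, 1, 2, 3, 5, 4, 3, 2, 1, 6, 2, 3, 5, 3, 0, 1, 0, 1], [2, 3, 2, 3, 5, 3, 2, 3, 2, 4, 3, 5, 2, 3, 4, 5, 3, 6, 1, 2, 3, 5, 4, 3, 2, 1, 6, 3, 5, 4, 3, 2, 3, 4], [2, 3, 2, 3, 5, 3, 2, 3, 2, 4, 3, 5, 2, 3, 4, 5, 3, 6, 1, 2, 3, 5, 4, 3, 2, 1, 6, 3, 5, 4, 3, 2, 3, 4, 3, 0, 1, 0, 1], [2, 3, 2, 3, 5, 3, 2, 3, 2, 4, 3, 5, 3, 0, 4, 3], [2, 3, 2, 3, 5, 3, 2, 3, 2, 4, 3, 5, 3, 0, 4, 0, 1, 0, 1], [2, 3, 2, 3, 5, 3, 2, 3, 2, 6, 3, 5, 2, 3, 4, 6, 3, 2, 5, 3, 6, 5, 3, 6, 1, 2, 3, 5, 4, 3, 2, 1, 6, 3, 5], [2, 3, 2, 3, 5, 3, 2, 3, 2, 6, 3, 5, 2, 3, 4, 6, 3, 2, 5, 3, 6, 5, 3, 6, 1, 2, 3, 5, 4, 3, 2, 1, 6, 3, 5, 3, 0, 1, 0, 1], [2, 3,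 2, 3, 5, 3, 2, 3, 2, 0, 4, 3, 2, 3, 4, 5, 3, 6, 1, 2, 3, 5, 4, 3, 2, 1, 6, 3, 5, 4, 3, 2, 5, 3, 4], [2, 3, 2, 3, 5, 3, 2, 3, 2, 0, 4, 3, 2, 3, 4, 5, 3, 6, 1, 2, 3, 5, 4, 3, 2, 1, 6, 3, 5, 4, 3, 2, 5, 3, 4, 3, 0, 1, 0, 1]]

/-- Centralizing words. -/
def allowed4 : List (List ℕ) := [[5, 3, 2, 3, 5, 4, 3, 2, 3, 4], [5, 3, 2, 3, 5, 4, 3, 2, 3, 4, 3, 0, 1, 0, 1], [5, 3, 2, 3, 5, 4, 3, 2, 3, 4, 0], [5, 3, 2, 3, 5, 4, 3, 2, 3, 4, 0, 3, 0, 1, 0, 1], [5, 3, 2, 3, 5, 4, 3, 2, 3, 4, 3], [5, 3, 2, 3, 5, 4, 3, 2, 3, 4, 0, 1, 0, 1], [5, 3, 2, 3, 5, 4, 3, 2, 5, 3, 4], [5, 3, 2, 3, 5, 4, 3, 2, 5, 3, 4, 3, 0, 1, 0, 1], [5, 3, 2, 6,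 1, 2, 3, 5, 4, 3, 2, 1, 6, 3, 5, 4, 3, 2, 3, 4], [5, 3, 2, 6, 1, 2, 3, 5, 4, 3, 2, 1, 6, 3, 5, 4, 3, 2, 3, 4, 3, 0, 1, 0, 1], [5, 3, 2, 3, 5, 4, 3, 2, 3, 4, 3, 0], [5, 3, 2, 3, 5, 4, 3, 2, 3, 4, 3, 0, 3, 0, 1, 0, 1], [5, 3, 2, 3, 5, 4, 3, 2, 5, 3, 0, 4], [5, 3, 2, 3, 5, 4, 3, 2, 5, 3, 0, 4, 3, 0, 1, 0, 1], [5, 3, 2, 3, 5, 4, 3, 2, 3, 4, 5, 3, 2, 6, 1, 2, 3, 5, 4, 3, 2, 1, 6, 3, 5, 2, 3, 2, 3, 5, 4, 3, 2, 3, 2], [5, 3, 2, 3, 5, 4, 3, 2, 3, 4, 5, 3, 2, 6, 1, 2, 3, 5, 4, 3, 2, 1, 6, 3, 5, 2, 3, 2, 3, 5, 4, 3, 2, 3, 2, 3, 0, 1, 0, 1], [5, 3, 2, 3, 5, 4, 3, 2, 5, 3, 4, 3], [5, 3, 2, 3, 5, 4, 3, 2, 5, 3, 4, 0, 1, 0, 1], [5,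 3, 2, 6, 1, 2, 3, 5, 4, 3, 2, 1, 6, 3, 5, 4, 3, 2, 3, 4, 3], [5, 3, 2, 6, 1, 2, 3, 5, 4, 3, 2, 1, 6, 3, 5, 4, 3, 2, 3, 4, 0, 1, 0, 1], [5, 3, 2, 6, 1, 2, 3, 5, 4, 3, 2, 1, 6, 3, 5, 4, 3, 2, 5, 3, 4], [5, 3, 2, 6, 1, 2, 3, 5, 4, 3, 2, 1, 6, 3, 5, 4, 3, 2, 5, 3, 4, 3, 0, 1, 0, 1], [5, 3, 2, 3, 5, 4, 3, 2, 3, 4, 2, 3, 2, 3, 4, 5, 3, 2, 3, 2, 5, 3, 6, 1, 2, 3, 5, 4, 3, 2, 1, 6, 2, 3, 5], [5, 3, 2, 3, 5, 4, 3, 2, 3, 4, 2, 3, 2, 3, 4, 5, 3, 2, 3, 2, 5, 3, 6, 1, 2, 3, 5, 4, 3, 2, 1, 6, 2, 3, 5, 3, 0, 1, 0, 1], [5, 3, 2, 3, 5, 4, 3, 2, 5, 2, 3, 4, 5, 3, 6, 1, 2, 3, 5, 4, 3, 2, 1, 6, 3, 5, 4, 3, 2, 3, 4], [5, 3, 2, 3, 5, 4, 3,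 2, 5, 2, 3, 4, 5, 3, 6, 1, 2, 3, 5, 4, 3, 2, 1, 6, 3, 5, 4, 3, 2, 3, 4, 3, 0, 1, 0, 1], [5, 3, 2, 3, 5, 4, 3, 2, 5, 3, 0, 4, 3], [5, 3, 2, 3, 5, 4, 3, 2, 5, 3, 0, 4, 0, 1, 0, 1], [5, 3, 2, 3, 5, 4, 3, 2, 3, 4, 6, 3, 5, 2, 3, 4, 6, 3, 2, 5, 3, 6, 5, 3, 6, 1, 2, 3, 5, 4, 3, 2, 1, 6, 3, 5], [5, 3, 2, 3, 5, 4, 3, 2, 3, 4, 6, 3, 5, 2, 3, 4, 6, 3, 2, 5, 3, 6, 5, 3, 6, 1, 2, 3, 5, 4, 3, 2, 1, 6, 3, 5, 3, 0, 1, 0, 1], [5, 3, 2, 3, 5, 4, 3, 2, 3, 4, 0, 4, 3, 2, 3, 4, 5, 3, 6, 1, 2, 3, 5, 4, 3, 2, 1, 6, 3, 5, 4, 3, 2, 5, 3, 4], [5, 3, 2, 3, 5, 4, 3, 2, 3, 4, 0, 4, 3, 2, 3, 4, 5, 3, 6, 1, 2, 3, 5, 4, 3, 2, 1, 6, 3, 5, 4, 3, 2,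 5, 3, 4, 3, 0, 1, 0, 1], [6, 3, 1, 2, 3, 6, 5, 3, 2, 1, 2, 3, 5, 6, 3, 2, 1, 3, 6], [6, 3, 1, 2, 3, 6, 5, 3, 2, 1, 2, 3, 5, 6, 3, 2, 1, 3, 6, 3, 0, 1, 0, 1], [6, 3, 1, 2, 3, 6, 5, 3, 2, 1, 2, 3, 5, 6, 3, 2, 1, 3, 6, 0], [6, 3, 1, 2, 3, 6, 5, 3, 2, 1, 2, 3, 5, 6, 3, 2, 1, 3, 6, 0, 3, 0, 1, 0, 1], [6, 3, 1, 2, 3, 6, 5, 3, 2, 1, 2, 3, 5, 6, 3, 2, 1, 3, 6, 3], [6, 3, 1, 2, 3, 6, 5, 3, 2, 1, 2, 3, 5, 6, 3, 2, 1, 3, 6, 0, 1, 0, 1], [6, 3, 1, 2, 3, 6, 5, 3, 2, 1, 2, 3, 5, 6, 3, 2, 1, 3, 6, 4, 3, 5, 3, 4], [6, 3, 1, 2, 3, 6, 5, 3, 2, 1, 2, 3, 5, 6, 3, 2, 1, 3, 6, 4, 3, 5, 3, 4, 3, 0, 1, 0, 1], [6, 3, 1, 2, 3, 6, 5, 3, 2, 1,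 2, 3, 5, 6, 3, 2, 1, 3, 6, 4, 3, 2, 3, 4, 5, 3, 6, 1, 2, 3, 5, 4, 3, 2, 1, 6, 3, 5, 4, 3, 2, 3, 4], [6, 3, 1, 2, 3, 6, 5, 3, 2, 1, 2, 3, 5, 6, 3, 2, 1, 3, 6, 4, 3, 2, 3, 4, 5, 3, 6, 1, 2, 3, 5, 4, 3, 2, 1, 6, 3, 5, 4, 3, 2, 3, 4, 3, 0, 1, 0, 1], [6, 3, 1, 2, 3, 6, 5, 3, 2, 1, 2, 3, 5, 6, 3, 2, 1, 3, 6, 3, 0], [6, 3, 1, 2, 3, 6, 5, 3, 2, 1, 2, 3, 5, 6, 3, 2, 1, 3, 6, 3, 0, 3, 0, 1, 0, 1], [6, 3, 1, 2, 3, 6, 5, 3, 2, 1, 2, 3, 5, 6, 3, 2, 1, 3, 6, 4, 3, 5, 3, 0, 4], [6, 3, 1, 2, 3, 6, 5, 3, 2, 1, 2, 3, 5, 6, 3, 2, 1, 3, 6, 4, 3, 5, 3, 0, 4, 3, 0, 1, 0, 1], [6, 3, 1, 2, 3, 6, 5, 3, 2, 1, 2, 3, 5, 6, 3, 2, 1, 3, 6, 5, 3,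 2, 6, 1, 2, 3, 5, 4, 3, 2, 1, 6, 3, 5, 2, 3, 2, 3, 5, 4, 3, 2, 3, 2], [6, 3, 1, 2, 3, 6, 5, 3, 2, 1, 2, 3, 5, 6, 3, 2, 1, 3, 6, 5, 3, 2, 6, 1, 2, 3, 5, 4, 3, 2, 1, 6, 3, 5, 2, 3, 2, 3, 5, 4, 3, 2, 3, 2, 3, 0, 1, 0, 1], [6, 3, 1, 2, 3, 6, 5, 3, 2, 1, 2, 3, 5, 6, 3, 2, 1, 3, 6, 4, 3, 5, 3, 4, 3], [6, 3, 1, 2, 3, 6, 5, 3, 2, 1, 2, 3, 5, 6, 3, 2, 1, 3, 6, 4, 3, 5, 3, 4, 0, 1, 0, 1], [6, 3, 1, 2, 3, 6, 5, 3, 2, 1, 2, 3, 5, 6, 3, 2, 1, 3, 6, 4, 3, 2, 3, 4, 5, 3, 6, 1, 2, 3, 5, 4, 3, 2, 1, 6, 3, 5, 4, 3, 2, 3, 4, 3], [6, 3, 1, 2, 3, 6, 5, 3, 2, 1, 2, 3, 5, 6, 3, 2, 1, 3, 6, 4, 3, 2, 3, 4, 5, 3, 6, 1, 2, 3, 5, 4, 3, 2, 1, 6,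 3, 5, 4, 3, 2, 3, 4, 0, 1, 0, 1], [6, 3, 1, 2, 3, 6, 5, 3, 2, 1, 2, 3, 5, 6, 3, 2, 1, 3, 6, 4, 3, 2, 3, 4, 5, 3, 6, 1, 2, 3, 5, 4, 3, 2, 1, 6, 3, 5, 4, 3, 2, 5, 3, 4], [6, 3, 1, 2, 3, 6, 5, 3, 2, 1, 2, 3, 5, 6, 3, 2, 1, 3, 6, 4, 3, 2, 3, 4, 5, 3, 6, 1, 2, 3, 5, 4, 3, 2, 1, 6, 3, 5, 4, 3, 2, 5, 3, 4, 3, 0, 1, 0, 1], [6, 3, 1, 2, 3, 6, 5, 3, 2, 1, 2, 3, 5, 6, 3, 2, 1, 3, 6, 2, 3, 2, 3, 4, 5, 3, 2, 3, 2, 5, 3, 6, 1, 2, 3, 5, 4, 3, 2, 1, 6, 2, 3, 5], [6, 3, 1, 2, 3, 6, 5, 3, 2, 1, 2, 3, 5, 6, 3, 2, 1, 3, 6, 2, 3, 2, 3, 4, 5, 3, 2, 3, 2, 5, 3, 6, 1, 2, 3, 5, 4, 3, 2, 1, 6, 2, 3, 5, 3, 0, 1, 0, 1], [6, 3, 1, 2, 3, 6, 5, 3,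 2, 1, 2, 3, 5, 6, 3, 2, 1, 3, 6, 4, 3, 5, 2, 3, 4, 5, 3, 6, 1, 2, 3, 5, 4, 3, 2, 1, 6, 3, 5, 4, 3, 2, 3, 4], [6, 3, 1, 2, 3, 6, 5, 3, 2, 1, 2, 3, 5, 6, 3, 2, 1, 3, 6, 4, 3, 5, 2, 3, 4, 5, 3, 6, 1, 2, 3, 5, 4, 3, 2, 1, 6, 3, 5, 4, 3, 2, 3, 4, 3, 0, 1, 0, 1], [6, 3, 1, 2, 3, 6, 5, 3, 2, 1, 2, 3, 5, 6, 3, 2, 1, 3, 6, 4, 3, 5, 3, 0, 4, 3], [6, 3, 1, 2, 3, 6, 5, 3, 2, 1, 2, 3, 5, 6, 3, 2, 1, 3, 6, 4, 3, 5, 3, 0, 4, 0, 1, 0, 1], [6, 3, 1, 2, 3, 6, 5, 3, 2, 1, 2, 3, 5, 6, 3, 2, 1, 5, 2, 3, 4, 6, 3, 2, 5, 3, 6, 5, 3, 6, 1, 2, 3, 5, 4, 3, 2, 1, 6, 3, 5], [6, 3, 1, 2, 3, 6, 5, 3, 2, 1, 2, 3, 5, 6, 3, 2, 1, 5, 2, 3, 4, 6, 3, 2,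 5, 3, 6, 5, 3, 6, 1, 2, 3, 5, 4, 3, 2, 1, 6, 3, 5, 3, 0, 1, 0, 1], [6, 3, 1, 2, 3, 6, 5, 3, 2, 1, 2, 3, 5, 6, 3, 2, 1, 3, 6, 0, 4, 3, 2, 3, 4, 5, 3, 6, 1, 2, 3, 5, 4, 3, 2, 1, 6, 3, 5, 4, 3, 2, 5, 3, 4], [6, 3, 1, 2, 3, 6, 5, 3, 2, 1, 2, 3, 5, 6, 3, 2, 1, 3, 6, 0, 4, 3, 2, 3, 4, 5, 3, 6, 1, 2, 3, 5, 4, 3, 2, 1, 6, 3, 5, 4, 3, 2, 5, 3, 4, 3, 0, 1, 0, 1]]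

/-- Centralizing words. -/
def allowed5 : List (List ℕ) := [[2, 3, 2, 3, 5, 4, 3, 2, 3, 2], [2, 3, 2, 3, 5, 4, 3, 2, 3, 2, 3, 0, 1, 0, 1], [2, 3, 2, 3, 5, 4, 3, 2, 3, 2, 0], [2, 3, 2, 3, 5, 4, 3, 2, 3, 2, 0, 3, 0, 1, 0, 1], [2, 3, 2, 3, 5, 4, 3, 2, 3, 2, 3], [2, 3, 2, 3, 5, 4, 3, 2, 3, 2, 0, 1, 0, 1], [2, 3, 2, 3, 5, 4, 3, 2, 3, 2, 4, 3, 5, 3, 4], [2, 3, 2, 3, 5, 4, 3, 2, 3, 2, 4, 3, 5, 3, 4, 3, 0, 1, 0, 1], [2, 3, 2, 3, 5, 4, 3, 2, 3, 2, 4, 3, 2, 3, 4, 5, 3, 6, 1, 2, 3, 5, 4, 3, 2, 1, 6, 3, 5, 4, 3, 2, 3, 4], [2, 3, 2, 3, 5, 4, 3, 2, 3, 2, 4, 3, 2, 3, 4, 5, 3, 6, 1, 2, 3, 5, 4, 3, 2, 1, 6, 3, 5, 4, 3, 2, 3, 4, 3, 0,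 1, 0, 1], [2, 3, 2, 3, 5, 4, 3, 2, 3, 2, 3, 0], [2, 3, 2, 3, 5, 4, 3, 2, 3, 2, 3, 0, 3, 0, 1, 0, 1], [2, 3, 2, 3, 5, 4, 3, 2, 3, 2, 4, 3, 5, 3, 0, 4], [2, 3, 2, 3, 5, 4, 3, 2, 3, 2, 4, 3, 5, 3, 0, 4, 3, 0, 1, 0, 1], [2, 3, 2, 3, 5, 4, 3, 2, 3, 2, 5, 3, 2, 6, 1, 2, 3, 5, 4, 3, 2, 1, 6, 3, 5, 2, 3, 2, 3, 5, 4, 3, 2, 3, 2], [2, 3, 2, 3, 5, 4, 3, 2, 3, 2, 5, 3, 2, 6, 1, 2, 3, 5, 4, 3, 2, 1, 6, 3, 5, 2, 3, 2, 3, 5, 4, 3, 2, 3, 2, 3, 0, 1, 0, 1], [2, 3, 2, 3, 5, 4, 3, 2, 3, 2, 4, 3, 5, 3, 4, 3], [2, 3, 2, 3, 5, 4, 3, 2, 3, 2, 4, 3, 5, 3, 4, 0, 1, 0, 1], [2, 3, 2, 3, 5, 4, 3, 2, 3, 2, 4, 3, 2, 3, 4, 5, 3, 6, 1, 2, 3, 5, 4,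 3, 2, 1, 6, 3, 5, 4, 3, 2, 3, 4, 3], [2, 3, 2, 3, 5, 4, 3, 2, 3, 2, 4, 3, 2, 3, 4, 5, 3, 6, 1, 2, 3, 5, 4, 3, 2, 1, 6, 3, 5, 4, 3, 2, 3, 4, 0, 1, 0, 1], [2, 3, 2, 3, 5, 4, 3, 2, 3, 2, 4, 3, 2, 3, 4, 5, 3, 6, 1, 2, 3, 5, 4, 3, 2, 1, 6, 3, 5, 4, 3, 2, 5, 3, 4], [2, 3, 2, 3, 5, 4, 3, 2, 3, 2, 4, 3, 2, 3, 4, 5, 3, 6, 1, 2, 3, 5, 4, 3, 2, 1, 6, 3, 5, 4, 3, 2, 5, 3, 4, 3, 0, 1, 0, 1], [5, 3, 6, 1, 2, 3, 5, 4, 3, 2, 1, 6, 2, 3, 5], [5, 3, 6, 1, 2, 3, 5, 4, 3, 2, 1, 6, 2, 3, 5, 3, 0, 1, 0, 1], [2, 3, 2, 3, 5, 4, 3, 2, 3, 2, 4, 3, 5, 2, 3, 4, 5, 3, 6, 1, 2, 3, 5, 4, 3, 2, 1, 6, 3, 5, 4, 3, 2, 3, 4], [2, 3, 2, 3, 5, 4, 3, 2, 3,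 2, 4, 3, 5, 2, 3, 4, 5, 3, 6, 1, 2, 3, 5, 4, 3, 2, 1, 6, 3, 5, 4, 3, 2, 3, 4, 3, 0, 1, 0, 1], [2, 3, 2, 3, 5, 4, 3, 2, 3, 2, 4, 3, 5, 3, 0, 4, 3], [2, 3, 2, 3, 5, 4, 3, 2, 3, 2, 4, 3, 5, 3, 0, 4, 0, 1, 0, 1], [2, 3, 2, 3, 5, 4, 3, 2, 3, 2, 6, 3, 5, 2, 3, 4, 6, 3, 2, 5, 3, 6, 5, 3, 6, 1, 2, 3, 5, 4, 3, 2, 1, 6, 3, 5], [2, 3, 2, 3, 5, 4, 3, 2, 3, 2, 6, 3, 5, 2, 3, 4, 6, 3, 2, 5, 3, 6, 5, 3, 6, 1, 2, 3, 5, 4, 3, 2, 1, 6, 3, 5, 3, 0, 1, 0, 1], [2, 3, 2, 3, 5, 4, 3, 2, 3, 2, 0, 4, 3, 2, 3, 4, 5, 3, 6, 1, 2, 3, 5, 4, 3, 2, 1, 6, 3, 5, 4, 3, 2, 5, 3, 4], [2, 3, 2, 3, 5, 4, 3, 2, 3, 2, 0, 4, 3, 2, 3, 4, 5, 3, 6, 1, 2, 3, 5,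 4, 3, 2, 1, 6, 3, 5, 4, 3, 2, 5, 3, 4, 3, 0, 1, 0, 1], [6, 3, 0, 1, 2, 3, 6, 5, 3, 2, 1, 2, 3, 5, 6, 3, 2, 1, 3, 6], [6, 3, 0, 1, 2, 3, 6, 5, 3, 2, 1, 2, 3, 5, 6, 3, 2, 1, 3, 6, 3, 0, 1, 0, 1], [6, 3, 0, 1, 2, 3, 6, 5, 3, 2, 1, 2, 3, 5, 6, 3, 2, 1, 3, 6, 0], [6, 3, 0, 1, 2, 3, 6, 5, 3, 2, 1, 2, 3, 5, 6, 3, 2, 1, 3, 6, 0, 3, 0, 1, 0, 1], [6, 3, 0, 1, 2, 3, 6, 5, 3, 2, 1, 2, 3, 5, 6, 3, 2, 1, 3, 6, 3], [6, 3, 0, 1, 2, 3, 6, 5, 3, 2, 1, 2, 3, 5, 6, 3, 2, 1, 3, 6, 0, 1, 0, 1], [6, 3, 0, 1, 2, 3, 6, 5, 3, 2, 1, 2, 3, 5, 6, 3, 2, 1, 3, 6, 4, 3, 5, 3, 4], [6, 3, 0, 1, 2, 3, 6, 5, 3, 2, 1, 2, 3, 5, 6, 3, 2, 1, 3, 6, 4, 3, 5,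 3, 4, 3, 0, 1, 0, 1], [6, 3, 0, 1, 2, 3, 6, 5, 3, 2, 1, 2, 3, 5, 6, 3, 2, 1, 3, 6, 4, 3, 2, 3, 4, 5, 3, 6, 1, 2, 3, 5, 4, 3, 2, 1, 6, 3, 5, 4, 3, 2, 3, 4], [6, 3, 0, 1, 2, 3, 6, 5, 3, 2, 1, 2, 3, 5, 6, 3, 2, 1, 3, 6, 4, 3, 2, 3, 4, 5, 3, 6, 1, 2, 3, 5, 4, 3, 2, 1, 6, 3, 5, 4, 3, 2, 3, 4, 3, 0, 1, 0, 1], [6, 3, 0, 1, 2, 3, 6, 5, 3, 2, 1, 2, 3, 5, 6, 3, 2, 1, 3, 6, 3, 0], [6, 3, 0, 1, 2, 3, 6, 5, 3, 2, 1, 2, 3, 5, 6, 3, 2, 1, 3, 6, 3, 0, 3, 0, 1, 0, 1], [6, 3, 0, 1, 2, 3, 6, 5, 3, 2, 1, 2, 3, 5, 6, 3, 2, 1, 3, 6, 4, 3, 5, 3, 0, 4], [6, 3, 0, 1, 2, 3, 6, 5, 3, 2, 1, 2, 3, 5, 6, 3, 2, 1, 3, 6, 4, 3, 5, 3, 0, 4, 3, 0, 1,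 0, 1], [6, 3, 0, 1, 2, 3, 6, 5, 3, 2, 1, 2, 3, 5, 6, 3, 2, 1, 3, 6, 5, 3, 2, 6, 1, 2, 3, 5, 4, 3, 2, 1, 6, 3, 5, 2, 3, 2, 3, 5, 4, 3, 2, 3, 2], [6, 3, 0, 1, 2, 3, 6, 5, 3, 2, 1, 2, 3, 5, 6, 3, 2, 1, 3, 6, 5, 3, 2, 6, 1, 2, 3, 5, 4, 3, 2, 1, 6, 3, 5, 2, 3, 2, 3, 5, 4, 3, 2, 3, 2, 3, 0, 1, 0, 1], [6, 3, 0, 1, 2, 3, 6, 5, 3, 2, 1, 2, 3, 5, 6, 3, 2, 1, 3, 6, 4, 3, 5, 3, 4, 3], [6, 3, 0, 1, 2, 3, 6, 5, 3, 2, 1, 2, 3, 5, 6, 3, 2, 1, 3, 6, 4, 3, 5, 3, 4, 0, 1, 0, 1], [6, 3, 0, 1, 2, 3, 6, 5, 3, 2, 1, 2, 3, 5, 6, 3, 2, 1, 3, 6, 4, 3, 2, 3, 4, 5, 3, 6, 1, 2, 3, 5, 4, 3, 2, 1, 6, 3, 5, 4, 3, 2, 3, 4, 3], [6, 3, 0, 1, 2, 3, 6,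 5, 3, 2, 1, 2, 3, 5, 6, 3, 2, 1, 3, 6, 4, 3, 2, 3, 4, 5, 3, 6, 1, 2, 3, 5, 4, 3, 2, 1, 6, 3, 5, 4, 3, 2, 3, 4, 0, 1, 0, 1], [6, 3, 0, 1, 2, 3, 6, 5, 3, 2, 1, 2, 3, 5, 6, 3, 2, 1, 3, 6, 4, 3, 2, 3, 4, 5, 3, 6, 1, 2, 3, 5, 4, 3, 2, 1, 6, 3, 5, 4, 3, 2, 5, 3, 4], [6, 3, 0, 1, 2, 3, 6, 5, 3, 2, 1, 2, 3, 5, 6, 3, 2, 1, 3, 6, 4, 3, 2, 3, 4, 5, 3, 6, 1, 2, 3, 5, 4, 3, 2, 1, 6, 3, 5, 4, 3, 2, 5, 3, 4, 3, 0, 1, 0, 1], [6, 3, 0, 1, 2, 3, 6, 5, 3, 2, 1, 2, 3, 5, 6, 3, 2, 1, 3, 6, 2, 3, 2, 3, 4, 5, 3, 2, 3, 2, 5, 3, 6, 1, 2, 3, 5, 4, 3, 2, 1, 6, 2, 3, 5], [6, 3, 0, 1, 2, 3, 6, 5, 3, 2, 1, 2, 3, 5, 6, 3, 2, 1, 3, 6, 2, 3, 2, 3, 4,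 5, 3, 2, 3, 2, 5, 3, 6, 1, 2, 3, 5, 4, 3, 2, 1, 6, 2, 3, 5, 3, 0, 1, 0, 1], [6, 3, 0, 1, 2, 3, 6, 5, 3, 2, 1, 2, 3, 5, 6, 3, 2, 1, 3, 6, 4, 3, 5, 2, 3, 4, 5, 3, 6, 1, 2, 3, 5, 4, 3, 2, 1, 6, 3, 5, 4, 3, 2, 3, 4], [6, 3, 0, 1, 2, 3, 6, 5, 3, 2, 1, 2, 3, 5, 6, 3, 2, 1, 3, 6, 4, 3, 5, 2, 3, 4, 5, 3, 6, 1, 2, 3, 5, 4, 3, 2, 1, 6, 3, 5, 4, 3, 2, 3, 4, 3, 0, 1, 0, 1], [6, 3, 0, 1, 2, 3, 6, 5, 3, 2, 1, 2, 3, 5, 6, 3, 2, 1, 3, 6, 4, 3, 5, 3, 0, 4, 3], [6, 3, 0, 1, 2, 3, 6, 5, 3, 2, 1, 2, 3, 5, 6, 3, 2, 1, 3, 6, 4, 3, 5, 3, 0, 4, 0, 1, 0, 1], [6, 3, 0, 1, 2, 3, 6, 5, 3, 2, 1, 2, 3, 5, 6, 3, 2, 1, 5, 2, 3, 4, 6, 3, 2, 5, 3, 6,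 5, 3, 6, 1, 2, 3, 5, 4, 3, 2, 1, 6, 3, 5], [6, 3, 0, 1, 2, 3, 6, 5, 3, 2, 1, 2, 3, 5, 6, 3, 2, 1, 5, 2, 3, 4, 6, 3, 2, 5, 3, 6, 5, 3, 6, 1, 2, 3, 5, 4, 3, 2, 1, 6, 3, 5, 3, 0, 1, 0, 1], [6, 3, 0, 1, 2, 3, 6, 5, 3, 2, 1, 2, 3, 5, 6, 3, 2, 1, 3, 6, 0, 4, 3, 2, 3, 4, 5, 3, 6, 1, 2, 3, 5, 4, 3, 2, 1, 6, 3, 5, 4, 3, 2, 5, 3, 4], [6, 3, 0, 1, 2, 3, 6, 5, 3, 2, 1, 2, 3, 5, 6, 3, 2, 1, 3, 6, 0, 4, 3, 2, 3, 4, 5, 3, 6, 1, 2, 3, 5, 4, 3, 2, 1, 6, 3, 5, 4, 3, 2, 5, 3, 4, 3, 0, 1, 0, 1]]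

/-- Centralizing words. -/
def allowed6 : List (List ℕ) := [[5, 3, 2, 3, 5, 4, 3, 2, 3, 4, 6, 3, 1, 2, 3, 6, 5, 3, 2, 1, 2, 3, 5, 6, 3, 2, 1, 3, 6], [5, 3, 2, 3, 5, 4, 3, 2, 3, 4, 6, 3, 1, 2, 3, 6, 5, 3, 2, 1, 2, 3, 5, 6, 3, 2, 1, 3, 6, 3, 0, 1, 0, 1], [5, 3, 2, 3, 5, 4, 3, 2, 3, 4, 6, 3, 1, 2, 3, 6, 5, 3, 2, 1, 2, 3, 5, 6, 3, 2, 1, 3, 6, 0], [5, 3, 2, 3, 5, 4, 3, 2, 3, 4, 6, 3, 1, 2, 3, 6, 5, 3, 2, 1, 2, 3, 5, 6, 3, 2, 1, 3, 6, 0, 3, 0, 1, 0, 1], [5, 3, 2, 3, 5, 4, 3, 2, 3, 4, 6, 3, 1, 2, 3, 6, 5, 3, 2, 1, 2, 3, 5, 6, 3, 2, 1, 3, 6, 3], [5, 3, 2, 3, 5, 4, 3, 2, 3, 4, 6, 3, 1, 2, 3, 6, 5, 3, 2, 1, 2, 3, 5, 6, 3, 2,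 1, 3, 6, 0, 1, 0, 1], [5, 3, 2, 3, 5, 4, 3, 2, 3, 4, 6, 3, 1, 2, 3, 6, 5, 3, 2, 1, 2, 3, 5, 6, 3, 2, 1, 3, 6, 4, 3, 5, 3, 4], [5, 3, 2, 3, 5, 4, 3, 2, 3, 4, 6, 3, 1, 2, 3, 6, 5, 3, 2, 1, 2, 3, 5, 6, 3, 2, 1, 3, 6, 4, 3, 5, 3, 4, 3, 0, 1, 0, 1], [5, 3, 2, 3, 5, 4, 3, 2, 3, 4, 6, 3, 1, 2, 3, 6, 5, 3, 2, 1, 2, 3, 5, 6, 3, 2, 1, 3, 6, 4, 3, 2, 3, 4, 5, 3, 6, 1, 2, 3, 5, 4, 3, 2, 1, 6, 3, 5, 4, 3, 2, 3, 4], [5, 3, 2, 3, 5, 4, 3, 2, 3, 4, 6, 3, 1, 2, 3, 6, 5, 3, 2, 1, 2, 3, 5, 6, 3, 2, 1, 3, 6, 4, 3, 2, 3, 4, 5, 3, 6, 1, 2, 3, 5, 4, 3, 2, 1, 6, 3, 5, 4, 3, 2, 3, 4, 3, 0, 1, 0, 1], [5, 3, 2, 3, 5, 4, 3, 2, 3, 4, 6, 3, 1, 2,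 3, 6, 5, 3, 2, 1, 2, 3, 5, 6, 3, 2, 1, 3, 6, 3, 0], [5, 3, 2, 3, 5, 4, 3, 2, 3, 4, 6, 3, 1, 2, 3, 6, 5, 3, 2, 1, 2, 3, 5, 6, 3, 2, 1, 3, 6, 3, 0, 3, 0, 1, 0, 1], [5, 3, 2, 3, 5, 4, 3, 2, 3, 4, 6, 3, 1, 2, 3, 6, 5, 3, 2, 1, 2, 3, 5, 6, 3, 2, 1, 3, 6, 4, 3, 5, 3, 0, 4], [5, 3, 2, 3, 5, 4, 3, 2, 3, 4, 6, 3, 1, 2, 3, 6, 5, 3, 2, 1, 2, 3, 5, 6, 3, 2, 1, 3, 6, 4, 3, 5, 3, 0, 4, 3, 0, 1, 0, 1], [5, 3, 2, 3, 5, 4, 3, 2, 3, 4, 6, 3, 1, 2, 3, 6, 5, 3, 2, 1, 2, 3, 5, 6, 3, 2, 1, 3, 6, 5, 3, 2, 6, 1, 2, 3, 5, 4, 3, 2, 1, 6, 3, 5, 2, 3, 2, 3, 5, 4, 3, 2, 3, 2], [5, 3, 2, 3, 5, 4, 3, 2, 3, 4, 6, 3, 1, 2, 3, 6, 5, 3, 2, 1, 2, 3, 5,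 6, 3, 2, 1, 3, 6, 5, 3, 2, 6, 1, 2, 3, 5, 4, 3, 2, 1, 6, 3, 5, 2, 3, 2, 3, 5, 4, 3, 2, 3, 2, 3, 0, 1, 0, 1], [5, 3, 2, 3, 5, 4, 3, 2, 3, 4, 6, 3, 1, 2, 3, 6, 5, 3, 2, 1, 2, 3, 5, 6, 3, 2, 1, 3, 6, 4, 3, 5, 3, 4, 3], [5, 3, 2, 3, 5, 4, 3, 2, 3, 4, 6, 3, 1, 2, 3, 6, 5, 3, 2, 1, 2, 3, 5, 6, 3, 2, 1, 3, 6, 4, 3, 5, 3, 4, 0, 1, 0, 1], [5, 3, 2, 3, 5, 4, 3, 2, 3, 4, 6, 3, 1, 2, 3, 6, 5, 3, 2, 1, 2, 3, 5, 6, 3, 2, 1, 3, 6, 4, 3, 2, 3, 4, 5, 3, 6, 1, 2, 3, 5, 4, 3, 2, 1, 6, 3, 5, 4, 3, 2, 3, 4, 3], [5, 3, 2, 3, 5, 4, 3, 2, 3, 4, 6, 3, 1, 2, 3, 6, 5, 3, 2, 1, 2, 3, 5, 6, 3, 2, 1, 3, 6, 4, 3, 2, 3, 4, 5, 3, 6, 1, 2, 3, 5, 4, 3,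 2, 1, 6, 3, 5, 4, 3, 2, 3, 4, 0, 1, 0, 1], [5, 3, 2, 3, 5, 4, 3, 2, 3, 4, 6, 3, 1, 2, 3, 6, 5, 3, 2, 1, 2, 3, 5, 6, 3, 2, 1, 3, 6, 4, 3, 2, 3, 4, 5, 3, 6, 1, 2, 3, 5, 4, 3, 2, 1, 6, 3, 5, 4, 3, 2, 5, 3, 4], [5, 3, 2, 3, 5, 4, 3, 2, 3, 4, 6, 3, 1, 2, 3, 6, 5, 3, 2, 1, 2, 3, 5, 6, 3, 2, 1, 3, 6, 4, 3, 2, 3, 4, 5, 3, 6, 1, 2, 3, 5, 4, 3, 2, 1, 6, 3, 5, 4, 3, 2, 5, 3, 4, 3, 0, 1, 0, 1], [5, 3, 2, 3, 5, 4, 3, 2, 3, 4, 6, 3, 1, 2, 3, 6, 5, 3, 2, 1, 2, 3, 5, 6, 3, 2, 1, 3, 6, 2, 3, 2, 3, 4, 5, 3, 2, 3, 2, 5, 3, 6, 1, 2, 3, 5, 4, 3, 2, 1, 6, 2, 3, 5], [5, 3, 2, 3, 5, 4, 3, 2, 3, 4, 6, 3, 1, 2, 3, 6, 5, 3, 2, 1, 2, 3, 5, 6, 3,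 2, 1, 3, 6, 2, 3, 2, 3, 4, 5, 3, 2, 3, 2, 5, 3, 6, 1, 2, 3, 5, 4, 3, 2, 1, 6, 2, 3, 5, 3, 0, 1, 0, 1], [5, 3, 2, 3, 5, 4, 3, 2, 3, 4, 6, 3, 1, 2, 3, 6, 5, 3, 2, 1, 2, 3, 5, 6, 3, 2, 1, 3, 6, 4, 3, 5, 2, 3, 4, 5, 3, 6, 1, 2, 3, 5, 4, 3, 2, 1, 6, 3, 5, 4, 3, 2, 3, 4], [5, 3, 2, 3, 5, 4, 3, 2, 3, 4, 6, 3, 1, 2, 3, 6, 5, 3, 2, 1, 2, 3, 5, 6, 3, 2, 1, 3, 6, 4, 3, 5, 2, 3, 4, 5, 3, 6, 1, 2, 3, 5, 4, 3, 2, 1, 6, 3, 5, 4, 3, 2, 3, 4, 3, 0, 1, 0, 1], [5, 3, 2, 3, 5, 4, 3, 2, 3, 4, 6, 3, 1, 2, 3, 6, 5, 3, 2, 1, 2, 3, 5, 6, 3, 2, 1, 3, 6, 4, 3, 5, 3, 0, 4, 3], [5, 3, 2, 3, 5, 4, 3, 2, 3, 4, 6, 3, 1, 2, 3, 6, 5, 3, 2, 1, 2, 3, 5,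 6, 3, 2, 1, 3, 6, 4, 3, 5, 3, 0, 4, 0, 1, 0, 1], [5, 3, 2, 3, 5, 4, 3, 2, 3, 4, 6, 3, 1, 2, 3, 6, 5, 3, 2, 1, 2, 3, 5, 6, 3, 2, 1, 5, 2, 3, 4, 6, 3, 2, 5, 3, 6, 5, 3, 6, 1, 2, 3, 5, 4, 3, 2, 1, 6, 3, 5], [5, 3, 2, 3, 5, 4, 3, 2, 3, 4, 6, 3, 1, 2, 3, 6, 5, 3, 2, 1, 2, 3, 5, 6, 3, 2, 1, 5, 2, 3, 4, 6, 3, 2, 5, 3, 6, 5, 3, 6, 1, 2, 3, 5, 4, 3, 2, 1, 6, 3, 5, 3, 0, 1, 0, 1], [5, 3, 2, 3, 5, 4, 3, 2, 3, 4, 6, 3, 1, 2, 3, 6, 5, 3, 2, 1, 2, 3, 5, 6, 3, 2, 1, 3, 6, 0, 4, 3, 2, 3, 4, 5, 3, 6, 1, 2, 3, 5, 4, 3, 2, 1, 6, 3, 5, 4, 3, 2, 5, 3, 4], [5, 3, 2, 3, 5, 4, 3, 2, 3, 4, 6, 3, 1, 2, 3, 6, 5, 3, 2, 1, 2, 3, 5, 6, 3, 2, 1, 3,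 6, 0, 4, 3, 2, 3, 4, 5, 3, 6, 1, 2, 3, 5, 4, 3, 2, 1, 6, 3, 5, 4, 3, 2, 5, 3, 4, 3, 0, 1, 0, 1], [5, 3, 2, 3, 5, 4, 3, 2, 3, 4, 6, 3, 0, 1, 2, 3, 6, 5, 3, 2, 1, 2, 3, 5, 6, 3, 2, 1, 3, 6], [5, 3, 2, 3, 5, 4, 3, 2, 3, 4, 6, 3, 0, 1, 2, 3, 6, 5, 3, 2, 1, 2, 3, 5, 6, 3, 2, 1, 3, 6, 3, 0, 1, 0, 1], [5, 3, 2, 3, 5, 4, 3, 2, 3, 4, 6, 3, 0, 1, 2, 3, 6, 5, 3, 2, 1, 2, 3, 5, 6, 3, 2, 1, 3, 6, 0], [5, 3, 2, 3, 5, 4, 3, 2, 3, 4, 6, 3, 0, 1, 2, 3, 6, 5, 3, 2, 1, 2, 3, 5, 6, 3, 2, 1, 3, 6, 0, 3, 0, 1, 0, 1], [5, 3, 2, 3, 5, 4, 3, 2, 3, 4, 6, 3, 0, 1, 2, 3, 6, 5, 3, 2, 1, 2, 3, 5, 6, 3, 2, 1, 3, 6, 3], [5, 3, 2, 3, 5, 4, 3, 2, 3,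 4, 6, 3, 0, 1, 2, 3, 6, 5, 3, 2, 1, 2, 3, 5, 6, 3, 2, 1, 3, 6, 0, 1, 0, 1], [5, 3, 2, 3, 5, 4, 3, 2, 3, 4, 6, 3, 0, 1, 2, 3, 6, 5, 3, 2, 1, 2, 3, 5, 6, 3, 2, 1, 3, 6, 4, 3, 5, 3, 4], [5, 3, 2, 3, 5, 4, 3, 2, 3, 4, 6, 3, 0, 1, 2, 3, 6, 5, 3, 2, 1, 2, 3, 5, 6, 3, 2, 1, 3, 6, 4, 3, 5, 3, 4, 3, 0, 1, 0, 1], [5, 3, 2, 3, 5, 4, 3, 2, 3, 4, 6, 3, 0, 1, 2, 3, 6, 5, 3, 2, 1, 2, 3, 5, 6, 3, 2, 1, 3, 6, 4, 3, 2, 3, 4, 5, 3, 6, 1, 2, 3, 5, 4, 3, 2, 1, 6, 3, 5, 4, 3, 2, 3, 4], [5, 3, 2, 3, 5, 4, 3, 2, 3, 4, 6, 3, 0, 1, 2, 3, 6, 5, 3, 2, 1, 2, 3, 5, 6, 3, 2, 1, 3, 6, 4, 3, 2, 3, 4, 5, 3, 6, 1, 2, 3, 5, 4, 3, 2, 1, 6, 3, 5, 4, 3, 2,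 3, 4, 3, 0, 1, 0, 1], [5, 3, 2, 3, 5, 4, 3, 2, 3, 4, 6, 3, 0, 1, 2, 3, 6, 5, 3, 2, 1, 2, 3, 5, 6, 3, 2, 1, 3, 6, 3, 0], [5, 3, 2, 3, 5, 4, 3, 2, 3, 4, 6, 3, 0, 1, 2, 3, 6, 5, 3, 2, 1, 2, 3, 5, 6, 3, 2, 1, 3, 6, 3, 0, 3, 0, 1, 0, 1], [5, 3, 2, 3, 5, 4, 3, 2, 3, 4, 6, 3, 0, 1, 2, 3, 6, 5, 3, 2, 1, 2, 3, 5, 6, 3, 2, 1, 3, 6, 4, 3, 5, 3, 0, 4], [5, 3, 2, 3, 5, 4, 3, 2, 3, 4, 6, 3, 0, 1, 2, 3, 6, 5, 3, 2, 1, 2, 3, 5, 6, 3, 2, 1, 3, 6, 4, 3, 5, 3, 0, 4, 3, 0, 1, 0, 1], [5, 3, 2, 3, 5, 4, 3, 2, 3, 4, 6, 3, 0, 1, 2, 3, 6, 5, 3, 2, 1, 2, 3, 5, 6, 3, 2, 1, 3, 6, 5, 3, 2, 6, 1, 2, 3, 5, 4, 3, 2, 1, 6, 3, 5, 2, 3, 2, 3, 5, 4, 3,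 2, 3, 2], [5, 3, 2, 3, 5, 4, 3, 2, 3, 4, 6, 3, 0, 1, 2, 3, 6, 5, 3, 2, 1, 2, 3, 5, 6, 3, 2, 1, 3, 6, 5, 3, 2, 6, 1, 2, 3, 5, 4, 3, 2, 1, 6, 3, 5, 2, 3, 2, 3, 5, 4, 3, 2, 3, 2, 3, 0, 1, 0, 1], [5, 3, 2, 3, 5, 4, 3, 2, 3, 4, 6, 3, 0, 1, 2, 3, 6, 5, 3, 2, 1, 2, 3, 5, 6, 3, 2, 1, 3, 6, 4, 3, 5, 3, 4, 3], [5, 3, 2, 3, 5, 4, 3, 2, 3, 4, 6, 3, 0, 1, 2, 3, 6, 5, 3, 2, 1, 2, 3, 5, 6, 3, 2, 1, 3, 6, 4, 3, 5, 3, 4, 0, 1, 0, 1], [5, 3, 2, 3, 5, 4, 3, 2, 3, 4, 6, 3, 0, 1, 2, 3, 6, 5, 3, 2, 1, 2, 3, 5, 6, 3, 2, 1, 3, 6, 4, 3, 2, 3, 4, 5, 3, 6, 1, 2, 3, 5, 4, 3, 2, 1, 6, 3, 5, 4, 3, 2, 3, 4, 3], [5, 3, 2, 3, 5, 4, 3, 2, 3, 4, 6, 3,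 0, 1, 2, 3, 6, 5, 3, 2, 1, 2, 3, 5, 6, 3, 2, 1, 3, 6, 4, 3, 2, 3, 4, 5, 3, 6, 1, 2, 3, 5, 4, 3, 2, 1, 6, 3, 5, 4, 3, 2, 3, 4, 0, 1, 0, 1], [5, 3, 2, 3, 5, 4, 3, 2, 3, 4, 6, 3, 0, 1, 2, 3, 6, 5, 3, 2, 1, 2, 3, 5, 6, 3, 2, 1, 3, 6, 4, 3, 2, 3, 4, 5, 3, 6, 1, 2, 3, 5, 4, 3, 2, 1, 6, 3, 5, 4, 3, 2, 5, 3, 4], [5, 3, 2, 3, 5, 4, 3, 2, 3, 4, 6, 3, 0, 1, 2, 3, 6, 5, 3, 2, 1, 2, 3, 5, 6, 3, 2, 1, 3, 6, 4, 3, 2, 3, 4, 5, 3, 6, 1, 2, 3, 5, 4, 3, 2, 1, 6, 3, 5, 4, 3, 2, 5, 3, 4, 3, 0, 1, 0, 1], [5, 3, 2, 3, 5, 4, 3, 2, 3, 4, 6, 3, 0, 1, 2, 3, 6, 5, 3, 2, 1, 2, 3, 5, 6, 3, 2, 1, 3, 6, 2, 3, 2, 3, 4, 5, 3, 2, 3, 2, 5, 3, 6, 1, 2,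 3, 5, 4, 3, 2, 1, 6, 2, 3, 5], [5, 3, 2, 3, 5, 4, 3, 2, 3, 4, 6, 3, 0, 1, 2, 3, 6, 5, 3, 2, 1, 2, 3, 5, 6, 3, 2, 1, 3, 6, 2, 3, 2, 3, 4, 5, 3, 2, 3, 2, 5, 3, 6, 1, 2, 3, 5, 4, 3, 2, 1, 6, 2, 3, 5, 3, 0, 1, 0, 1], [5, 3, 2, 3, 5, 4, 3, 2, 3, 4, 6, 3, 0, 1, 2, 3, 6, 5, 3, 2, 1, 2, 3, 5, 6, 3, 2, 1, 3, 6, 4, 3, 5, 2, 3, 4, 5, 3, 6, 1, 2, 3, 5, 4, 3, 2, 1, 6, 3, 5, 4, 3, 2, 3, 4], [5, 3, 2, 3, 5, 4, 3, 2, 3, 4, 6, 3, 0, 1, 2, 3, 6, 5, 3, 2, 1, 2, 3, 5, 6, 3, 2, 1, 3, 6, 4, 3, 5, 2, 3, 4, 5, 3, 6, 1, 2, 3, 5, 4, 3, 2, 1, 6, 3, 5, 4, 3, 2, 3, 4, 3, 0, 1, 0, 1], [5, 3, 2, 3, 5, 4, 3, 2, 3, 4, 6, 3, 0, 1, 2, 3, 6, 5, 3, 2, 1,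 2, 3, 5, 6, 3, 2, 1, 3, 6, 4, 3, 5, 3, 0, 4, 3], [5, 3, 2, 3, 5, 4, 3, 2, 3, 4, 6, 3, 0, 1, 2, 3, 6, 5, 3, 2, 1, 2, 3, 5, 6, 3, 2, 1, 3, 6, 4, 3, 5, 3, 0, 4, 0, 1, 0, 1], [5, 3, 2, 3, 5, 4, 3, 2, 3, 4, 6, 3, 0, 1, 2, 3, 6, 5, 3, 2, 1, 2, 3, 5, 6, 3, 2, 1, 5, 2, 3, 4, 6, 3, 2, 5, 3, 6, 5, 3, 6, 1, 2, 3, 5, 4, 3, 2, 1, 6, 3, 5], [5, 3, 2, 3, 5, 4, 3, 2, 3, 4, 6, 3, 0, 1, 2, 3, 6, 5, 3, 2, 1, 2, 3, 5, 6, 3, 2, 1, 5, 2, 3, 4, 6, 3, 2, 5, 3, 6, 5, 3, 6, 1, 2, 3, 5, 4, 3, 2, 1, 6, 3, 5, 3, 0, 1, 0, 1], [5, 3, 2, 3, 5, 4, 3, 2, 3, 4, 6, 3, 0, 1, 2, 3, 6, 5, 3, 2, 1, 2, 3, 5, 6, 3, 2, 1, 3, 6, 0, 4, 3, 2, 3, 4, 5, 3, 6, 1, 2,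 3, 5, 4, 3, 2, 1, 6, 3, 5, 4, 3, 2, 5, 3, 4], [5, 3, 2, 3, 5, 4, 3, 2, 3, 4, 6, 3, 0, 1, 2, 3, 6, 5, 3, 2, 1, 2, 3, 5, 6, 3, 2, 1, 3, 6, 0, 4, 3, 2, 3, 4, 5, 3, 6, 1, 2, 3, 5, 4, 3, 2, 1, 6, 3, 5, 4, 3, 2, 5, 3, 4, 3, 0, 1, 0, 1]]

/-- Centralizing words. -/
def allowed7 : List (List ℕ) := [[5, 3, 2, 3, 5, 6, 3, 1, 2, 3, 6, 5, 3, 2, 1, 2, 3, 5, 6, 3, 2, 1, 3, 6], [5, 3, 2, 3, 5, 6, 3, 1, 2, 3, 6, 5, 3, 2, 1, 2, 3, 5, 6, 3, 2, 1, 3, 6, 3, 0, 1, 0, 1], [5, 3, 2, 3, 5, 6, 3, 1, 2, 3, 6, 5, 3, 2, 1, 2, 3, 5, 6, 3, 2, 1, 3, 6, 0], [5, 3, 2, 3, 5, 6, 3, 1, 2, 3, 6, 5, 3, 2, 1, 2, 3, 5, 6, 3, 2, 1, 3, 6, 0, 3, 0, 1, 0, 1],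 [5, 3, 2, 3, 5, 6, 3, 1, 2, 3, 6, 5, 3, 2, 1, 2, 3, 5, 6, 3, 2, 1, 3, 6, 3], [5, 3, 2, 3, 5, 6, 3, 1, 2, 3, 6, 5, 3, 2, 1, 2, 3, 5, 6, 3, 2, 1, 3, 6, 0, 1, 0, 1], [5, 3, 2, 3, 5, 6, 3, 1, 2, 3, 6, 5, 3, 2, 1, 2, 3, 5, 6, 3, 2, 1, 3, 6, 4, 3, 5, 3, 4], [5, 3, 2, 3, 5, 6, 3, 1, 2, 3, 6, 5, 3, 2, 1, 2, 3, 5, 6, 3, 2, 1, 3, 6, 4, 3, 5, 3, 4, 3, 0, 1, 0, 1], [5, 3, 2, 3, 5, 6, 3, 1, 2, 3, 6, 5, 3, 2, 1, 2, 3, 5, 6, 3, 2, 1, 3, 6, 4, 3, 2, 3, 4, 5, 3, 6, 1, 2, 3, 5, 4, 3, 2, 1, 6, 3, 5, 4, 3, 2, 3, 4], [5, 3, 2, 3, 5, 6, 3, 1, 2, 3, 6, 5, 3, 2, 1, 2, 3, 5, 6, 3, 2, 1, 3, 6, 4, 3, 2, 3, 4, 5, 3, 6, 1, 2, 3, 5, 4, 3, 2, 1, 6,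 3, 5, 4, 3, 2, 3, 4, 3, 0, 1, 0, 1], [5, 3, 2, 3, 5, 6, 3, 1, 2, 3, 6, 5, 3, 2, 1, 2, 3, 5, 6, 3, 2, 1, 3, 6, 3, 0], [5, 3, 2, 3, 5, 6, 3, 1, 2, 3, 6, 5, 3, 2, 1, 2, 3, 5, 6, 3, 2, 1, 3, 6, 3, 0, 3, 0, 1, 0, 1], [5, 3, 2, 3, 5, 6, 3, 1, 2, 3, 6, 5, 3, 2, 1, 2, 3, 5, 6, 3, 2, 1, 3, 6, 4, 3, 5, 3, 0, 4], [5, 3, 2, 3, 5, 6, 3, 1, 2, 3, 6, 5, 3, 2, 1, 2, 3, 5, 6, 3, 2, 1, 3, 6, 4, 3, 5, 3, 0, 4, 3, 0, 1, 0, 1], [5, 3, 2, 3, 5, 6, 3, 1, 2, 3, 6, 5, 3, 2, 1, 2, 3, 5, 6, 3, 2, 1, 3, 6, 5, 3, 2, 6, 1, 2, 3, 5, 4, 3, 2, 1, 6, 3, 5, 2, 3, 2, 3, 5, 4, 3, 2, 3, 2], [5, 3, 2, 3, 5, 6, 3, 1, 2, 3, 6, 5, 3, 2, 1, 2, 3, 5, 6, 3, 2,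 1, 3, 6, 5, 3, 2, 6, 1, 2, 3, 5, 4, 3, 2, 1, 6, 3, 5, 2, 3, 2, 3, 5, 4, 3, 2, 3, 2, 3, 0, 1, 0, 1], [5, 3, 2, 3, 5, 6, 3, 1, 2, 3, 6, 5, 3, 2, 1, 2, 3, 5, 6, 3, 2, 1, 3, 6, 4, 3, 5, 3, 4, 3], [5, 3, 2, 3, 5, 6, 3, 1, 2, 3, 6, 5, 3, 2, 1, 2, 3, 5, 6, 3, 2, 1, 3, 6, 4, 3, 5, 3, 4, 0, 1, 0, 1], [5, 3, 2, 3, 5, 6, 3, 1, 2, 3, 6, 5, 3, 2, 1, 2, 3, 5, 6, 3, 2, 1, 3, 6, 4, 3, 2, 3, 4, 5, 3, 6, 1, 2, 3, 5, 4, 3, 2, 1, 6, 3, 5, 4, 3, 2, 3, 4, 3], [5, 3, 2, 3, 5, 6, 3, 1, 2, 3, 6, 5, 3, 2, 1, 2, 3, 5, 6, 3, 2, 1, 3, 6, 4, 3, 2, 3, 4, 5, 3, 6, 1, 2, 3, 5, 4, 3, 2, 1, 6, 3, 5, 4, 3, 2, 3, 4, 0, 1, 0, 1], [5, 3, 2, 3, 5, 6, 3, 1,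 2, 3, 6, 5, 3, 2, 1, 2, 3, 5, 6, 3, 2, 1, 3, 6, 4, 3, 2, 3, 4, 5, 3, 6, 1, 2, 3, 5, 4, 3, 2, 1, 6, 3, 5, 4, 3, 2, 5, 3, 4], [5, 3, 2, 3, 5, 6, 3, 1, 2, 3, 6, 5, 3, 2, 1, 2, 3, 5, 6, 3, 2, 1, 3, 6, 4, 3, 2, 3, 4, 5, 3, 6, 1, 2, 3, 5, 4, 3, 2, 1, 6, 3, 5, 4, 3, 2, 5, 3, 4, 3, 0, 1, 0, 1], [5, 3, 2, 3, 5, 6, 3, 1, 2, 3, 6, 5, 3, 2, 1, 2, 3, 5, 6, 3, 2, 1, 3, 6, 2, 3, 2, 3, 4, 5, 3, 2, 3, 2, 5, 3, 6, 1, 2, 3, 5, 4, 3, 2, 1, 6, 2, 3, 5], [5, 3, 2, 3, 5, 6, 3, 1, 2, 3, 6, 5, 3, 2, 1, 2, 3, 5, 6, 3, 2, 1, 3, 6, 2, 3, 2, 3, 4, 5, 3, 2, 3, 2, 5, 3, 6, 1, 2, 3, 5, 4, 3, 2, 1, 6, 2, 3, 5, 3, 0, 1, 0, 1], [5, 3, 2, 3, 5, 6, 3, 1,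 2, 3, 6, 5, 3, 2, 1, 2, 3, 5, 6, 3, 2, 1, 3, 6, 4, 3, 5, 2, 3, 4, 5, 3, 6, 1, 2, 3, 5, 4, 3, 2, 1, 6, 3, 5, 4, 3, 2, 3, 4], [5, 3, 2, 3, 5, 6, 3, 1, 2, 3, 6, 5, 3, 2, 1, 2, 3, 5, 6, 3, 2, 1, 3, 6, 4, 3, 5, 2, 3, 4, 5, 3, 6, 1, 2, 3, 5, 4, 3, 2, 1, 6, 3, 5, 4, 3, 2, 3, 4, 3, 0, 1, 0, 1], [5, 3, 2, 3, 5, 6, 3, 1, 2, 3, 6, 5, 3, 2, 1, 2, 3, 5, 6, 3, 2, 1, 3, 6, 4, 3, 5, 3, 0, 4, 3], [5, 3, 2, 3, 5, 6, 3, 1, 2, 3, 6, 5, 3, 2, 1, 2, 3, 5, 6, 3, 2, 1, 3, 6, 4, 3, 5, 3, 0, 4, 0, 1, 0, 1], [5, 3, 2, 3, 5, 6, 3, 1, 2, 3, 6, 5, 3, 2, 1, 2, 3, 5, 6, 3, 2, 1, 5, 2, 3, 4, 6, 3, 2, 5, 3, 6, 5, 3, 6, 1, 2, 3, 5, 4, 3, 2, 1, 6, 3, 5],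 [5, 3, 2, 3, 5, 6, 3, 1, 2, 3, 6, 5, 3, 2, 1, 2, 3, 5, 6, 3, 2, 1, 5, 2, 3, 4, 6, 3, 2, 5, 3, 6, 5, 3, 6, 1, 2, 3, 5, 4, 3, 2, 1, 6, 3, 5, 3, 0, 1, 0, 1], [5, 3, 2, 3, 5, 6, 3, 1, 2, 3, 6, 5, 3, 2, 1, 2, 3, 5, 6, 3, 2, 1, 3, 6, 0, 4, 3, 2, 3, 4, 5, 3, 6, 1, 2, 3, 5, 4, 3, 2, 1, 6, 3, 5, 4, 3, 2, 5, 3, 4], [5, 3, 2, 3, 5, 6, 3, 1, 2, 3, 6, 5, 3, 2, 1, 2, 3, 5, 6, 3, 2, 1, 3, 6, 0, 4, 3, 2, 3, 4, 5, 3, 6, 1, 2, 3, 5, 4, 3, 2, 1, 6, 3, 5, 4, 3, 2, 5, 3, 4, 3, 0, 1, 0, 1], [5, 3, 2, 3, 5, 6, 3, 0, 1, 2, 3, 6, 5, 3, 2, 1, 2, 3, 5, 6, 3, 2, 1, 3, 6], [5, 3, 2, 3, 5, 6, 3, 0, 1, 2, 3, 6, 5, 3, 2, 1, 2, 3, 5, 6, 3, 2, 1, 3,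 6, 3, 0, 1, 0, 1], [5, 3, 2, 3, 5, 6, 3, 0, 1, 2, 3, 6, 5, 3, 2, 1, 2, 3, 5, 6, 3, 2, 1, 3, 6, 0], [5, 3, 2, 3, 5, 6, 3, 0, 1, 2, 3, 6, 5, 3, 2, 1, 2, 3, 5, 6, 3, 2, 1, 3, 6, 0, 3, 0, 1, 0, 1], [5, 3, 2, 3, 5, 6, 3, 0, 1, 2, 3, 6, 5, 3, 2, 1, 2, 3, 5, 6, 3, 2, 1, 3, 6, 3], [5, 3, 2, 3, 5, 6, 3, 0, 1, 2, 3, 6, 5, 3, 2, 1, 2, 3, 5, 6, 3, 2, 1, 3, 6, 0, 1, 0, 1], [5, 3, 2, 3, 5, 6, 3, 0, 1, 2, 3, 6, 5, 3, 2, 1, 2, 3, 5, 6, 3, 2, 1, 3, 6, 4, 3, 5, 3, 4], [5, 3, 2, 3, 5, 6, 3, 0, 1, 2, 3, 6, 5, 3, 2, 1, 2, 3, 5, 6, 3, 2, 1, 3, 6, 4, 3, 5, 3, 4, 3, 0, 1, 0, 1], [5, 3, 2, 3, 5, 6, 3, 0, 1, 2, 3, 6, 5, 3, 2, 1, 2, 3, 5, 6, 3,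 2, 1, 3, 6, 4, 3, 2, 3, 4, 5, 3, 6, 1, 2, 3, 5, 4, 3, 2, 1, 6, 3, 5, 4, 3, 2, 3, 4], [5, 3, 2, 3, 5, 6, 3, 0, 1, 2, 3, 6, 5, 3, 2, 1, 2, 3, 5, 6, 3, 2, 1, 3, 6, 4, 3, 2, 3, 4, 5, 3, 6, 1, 2, 3, 5, 4, 3, 2, 1, 6, 3, 5, 4, 3, 2, 3, 4, 3, 0, 1, 0, 1], [5, 3, 2, 3, 5, 6, 3, 0, 1, 2, 3, 6, 5, 3, 2, 1, 2, 3, 5, 6, 3, 2, 1, 3, 6, 3, 0], [5, 3, 2, 3, 5, 6, 3, 0, 1, 2, 3, 6, 5, 3, 2, 1, 2, 3, 5, 6, 3, 2, 1, 3, 6, 3, 0, 3, 0, 1, 0, 1], [5, 3, 2, 3, 5, 6, 3, 0, 1, 2, 3, 6, 5, 3, 2, 1, 2, 3, 5, 6, 3, 2, 1, 3, 6, 4, 3, 5, 3, 0, 4], [5, 3, 2, 3, 5, 6, 3, 0, 1, 2, 3, 6, 5, 3, 2, 1, 2, 3, 5, 6, 3, 2, 1, 3, 6, 4, 3, 5, 3, 0, 4, 3, 0,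 1, 0, 1], [5, 3, 2, 3, 5, 6, 3, 0, 1, 2, 3, 6, 5, 3, 2, 1, 2, 3, 5, 6, 3, 2, 1, 3, 6, 5, 3, 2, 6, 1, 2, 3, 5, 4, 3, 2, 1, 6, 3, 5, 2, 3, 2, 3, 5, 4, 3, 2, 3, 2], [5, 3, 2, 3, 5, 6, 3, 0, 1, 2, 3, 6, 5, 3, 2, 1, 2, 3, 5, 6, 3, 2, 1, 3, 6, 5, 3, 2, 6, 1, 2, 3, 5, 4, 3, 2, 1, 6, 3, 5, 2, 3, 2, 3, 5, 4, 3, 2, 3, 2, 3, 0, 1, 0, 1], [5, 3, 2, 3, 5, 6, 3, 0, 1, 2, 3, 6, 5, 3, 2, 1, 2, 3, 5, 6, 3, 2, 1, 3, 6, 4, 3, 5, 3, 4, 3], [5, 3, 2, 3, 5, 6, 3, 0, 1, 2, 3, 6, 5, 3, 2, 1, 2, 3, 5, 6, 3, 2, 1, 3, 6, 4, 3, 5, 3, 4, 0, 1, 0, 1], [5, 3, 2, 3, 5, 6, 3, 0, 1, 2, 3, 6, 5, 3, 2, 1, 2, 3, 5, 6, 3, 2, 1, 3, 6, 4, 3, 2, 3, 4, 5, 3,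 6, 1, 2, 3, 5, 4, 3, 2, 1, 6, 3, 5, 4, 3, 2, 3, 4, 3], [5, 3, 2, 3, 5, 6, 3, 0, 1, 2, 3, 6, 5, 3, 2, 1, 2, 3, 5, 6, 3, 2, 1, 3, 6, 4, 3, 2, 3, 4, 5, 3, 6, 1, 2, 3, 5, 4, 3, 2, 1, 6, 3, 5, 4, 3, 2, 3, 4, 0, 1, 0, 1], [5, 3, 2, 3, 5, 6, 3, 0, 1, 2, 3, 6, 5, 3, 2, 1, 2, 3, 5, 6, 3, 2, 1, 3, 6, 4, 3, 2, 3, 4, 5, 3, 6, 1, 2, 3, 5, 4, 3, 2, 1, 6, 3, 5, 4, 3, 2, 5, 3, 4], [5, 3, 2, 3, 5, 6, 3, 0, 1, 2, 3, 6, 5, 3, 2, 1, 2, 3, 5, 6, 3, 2, 1, 3, 6, 4, 3, 2, 3, 4, 5, 3, 6, 1, 2, 3, 5, 4, 3, 2, 1, 6, 3, 5, 4, 3, 2, 5, 3, 4, 3, 0, 1, 0, 1], [5, 3, 2, 3, 5, 6, 3, 0, 1, 2, 3, 6, 5, 3, 2, 1, 2, 3, 5, 6, 3, 2, 1, 3, 6, 2, 3, 2, 3, 4,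 5, 3, 2, 3, 2, 5, 3, 6, 1, 2, 3, 5, 4, 3, 2, 1, 6, 2, 3, 5], [5, 3, 2, 3, 5, 6, 3, 0, 1, 2, 3, 6, 5, 3, 2, 1, 2, 3, 5, 6, 3, 2, 1, 3, 6, 2, 3, 2, 3, 4, 5, 3, 2, 3, 2, 5, 3, 6, 1, 2, 3, 5, 4, 3, 2, 1, 6, 2, 3, 5, 3, 0, 1, 0, 1], [5, 3, 2, 3, 5, 6, 3, 0, 1, 2, 3, 6, 5, 3, 2, 1, 2, 3, 5, 6, 3, 2, 1, 3, 6, 4, 3, 5, 2, 3, 4, 5, 3, 6, 1, 2, 3, 5, 4, 3, 2, 1, 6, 3, 5, 4, 3, 2, 3, 4], [5, 3, 2, 3, 5, 6, 3, 0, 1, 2, 3, 6, 5, 3, 2, 1, 2, 3, 5, 6, 3, 2, 1, 3, 6, 4, 3, 5, 2, 3, 4, 5, 3, 6, 1, 2, 3, 5, 4, 3, 2, 1, 6, 3, 5, 4, 3, 2, 3, 4, 3, 0, 1, 0, 1], [5, 3, 2, 3, 5, 6, 3, 0, 1, 2, 3, 6, 5, 3, 2, 1, 2, 3, 5, 6, 3, 2, 1, 3, 6, 4,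 3, 5, 3, 0, 4, 3], [5, 3, 2, 3, 5, 6, 3, 0, 1, 2, 3, 6, 5, 3, 2, 1, 2, 3, 5, 6, 3, 2, 1, 3, 6, 4, 3, 5, 3, 0, 4, 0, 1, 0, 1], [5, 3, 2, 3, 5, 6, 3, 0, 1, 2, 3, 6, 5, 3, 2, 1, 2, 3, 5, 6, 3, 2, 1, 5, 2, 3, 4, 6, 3, 2, 5, 3, 6, 5, 3, 6, 1, 2, 3, 5, 4, 3, 2, 1, 6, 3, 5], [5, 3, 2, 3, 5, 6, 3, 0, 1, 2, 3, 6, 5, 3, 2, 1, 2, 3, 5, 6, 3, 2, 1, 5, 2, 3, 4, 6, 3, 2, 5, 3, 6, 5, 3, 6, 1, 2, 3, 5, 4, 3, 2, 1, 6, 3, 5, 3, 0, 1, 0, 1], [5, 3, 2, 3, 5, 6, 3, 0, 1, 2, 3, 6, 5, 3, 2, 1, 2, 3, 5, 6, 3, 2, 1, 3, 6, 0, 4, 3, 2, 3, 4, 5, 3, 6, 1, 2, 3, 5, 4, 3, 2, 1, 6, 3, 5, 4, 3, 2, 5, 3, 4], [5, 3, 2, 3, 5, 6, 3, 0, 1, 2, 3, 6, 5, 3,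 2, 1, 2, 3, 5, 6, 3, 2, 1, 3, 6, 0, 4, 3, 2, 3, 4, 5, 3, 6, 1, 2, 3, 5, 4, 3, 2, 1, 6, 3, 5, 4, 3, 2, 5, 3, 4, 3, 0, 1, 0, 1]]

/-- The elements of the centralizer fixing the first base point. -/
def allowed : List (List ℕ) := allowed0 ++ allowed1 ++ allowed2 ++ allowed3 ++ allowed4 ++ allowed5 ++ allowed6 ++ allowed7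

/-- The second images: a fixed point and a word reaching it. -/
def seconds : List (ℕ × List ℕ) := [(78, []), (79, [5, 4]), (244, [2, 5, 3, 2]), (429, [4, 2, 3, 2]), (434, [1, 2, 3, 6, 3, 2, 1, 4]), (440, [1, 2, 3, 5, 3, 2, 3, 4, 6, 3, 2, 4, 5, 3, 2, 1]), (506, [4, 3, 2, 0, 3, 1, 2, 3, 6, 3, 2, 1]), (732, [4, 1, 2, 3, 6, 3, 2, 1]), (776, [4, 3, 2, 3, 1, 2, 3, 6, 3, 2, 1])]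

/-- The other fixed points, outside the orbit. -/
def outside : List ℕ := [0, 1, 4, 17, 18, 22, 37, 70, 75, 81, 82, 157, 253, 258, 268, 306, 425, 437, 450, 471, 504, 722, 743, 744, 749, 774, 847, 1178, 1214, 1683, 1852, 1880, 1934]

end CfsgLib.Spor.HeInvCent
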