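/-
Branches of the search.
-/
import Cfsg.Agent.Lib.Spor.ActCert.Search

set_option autoImplicit false
set_option maxRecDepth 100000
set_option maxHeartbeats 0

namespace CfsgLib.Spor.HeInvCent

open CfsgLib.Spor.TC CfsgLib.Spor.ActCert

/-- Branches. -/
def kids0Part0 : List Branch := [
  .out 0,
  .sub [] [.sub [] [.done 0, .done 1], .sub [0] [.done 2, .done 3], .sub [3] [.done 4, .done 5], .sub [4, 3, 5, 3, 4] [.done 6, .done 7], .sub [4, 3, 2, 3, 4, 5, 3, 6, 1, 2, 3, 5, 4, 3, 2, 1, 6, 3, 5, 4, 3, 2, 3, 4] [.done 8, .done 9], .sub [3, 0] [.done 10, .done 11], .sub [4, 3, 5, 3, 0, 4] [.done 12, .done 13], .sub [5, 3, 2, 6, 1, 2, 3, 5, 4, 3, 2, 1, 6, 3, 5, 2, 3, 2, 3, 5, 4, 3, 2, 3, 2] [.done 14, .done 15], .sub [4, 3, 5, 3, 4, 3] [.done 16, .done 17], .sub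 [4, 3, 2, 3, 4, 5, 3, 6, 1, 2, 3, 5, 4, 3, 2, 1, 6, 3, 5, 4, 3, 2, 3, 4, 3] [.done 18, .done 19], .sub [4, 3, 2, 3, 4, 5, 3, 6, 1, 2, 3, 5, 4, 3, 2, 1, 6, 3, 5, 4, 3, 2, 5, 3, 4] [.done 20, .done 21], .sub [2, 3, 2, 3, 4, 5, 3, 2, 3, 2, 5, 3, 6, 1, 2, 3, 5, 4, 3, 2, 1, 6, 2, 3, 5] [.done 22, .done 23], .sub [4, 3, 5, 2, 3, 4, 5, 3, 6, 1, 2, 3, 5, 4, 3, 2, 1, 6, 3, 5, 4, 3, 2, 3, 4] [.done 24, .done 25], .sub [4, 3, 5, 3, 0, 4, 3] [.done 26, .done 27], .sub [6, 3, 5, 2, 3, 4, 6, 3, 2, 5, 3, 6, 5, 3, 6, 1, 2, 3, 5, 4, 3, 2, 1, 6, 3, 5] [.done 28, .done 29], .sub [0, 4, 3, 2, 3, 4, 5, 3, 6, 1, 2, 3, 5, 4, 3, 2, 1, 6, 3, 5, 4, 3, 2, 5, 3, 4] [.done 30, .done 31]],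
  .sub [4, 3, 2, 3, 4] [.sub [] [.done 32, .done 33], .sub [0] [.done 34, .done 35], .sub [3] [.done 36, .done 37], .sub [4, 3, 5, 3, 4] [.done 38, .done 39], .sub [4, 3, 2, 3, 4, 5, 3, 6, 1, 2, 3, 5, 4, 3, 2, 1, 6, 3, 5, 4, 3, 2, 3, 4] [.done 40, .done 41], .sub [3, 0] [.done 42, .done 43], .sub [4, 3, 5, 3, 0, 4] [.done 44, .done 45], .sub [5, 3, 2, 6, 1, 2, 3, 5, 4, 3, 2, 1, 6, 3, 5, 2, 3, 2, 3, 5, 4, 3, 2, 3, 2] [.done 46, .done 47], .sub [4, 3, 5, 3, 4, 3] [.done 48, .done 49], .sub [4, 3, 2, 3, 4, 5, 3, 6, 1, 2, 3, 5, 4, 3, 2, 1, 6, 3, 5, 4, 3, 2, 3, 4, 3] [.done 50, .done 51], .sub [4, 3, 2, 3, 4, 5, 3, 6, 1, 2, 3, 5, 4, 3, 2, 1, 6, 3, 5, 4, 3, 2, 5, 3, 4] [.done 52, .done 53], .sub [2, 3, 2, 3, 4, 5, 3, 2, 3, 2, 5, 3, 6, 1, 2, 3, 5, 4, 3, 2, 1, 6,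 2, 3, 5] [.done 54, .done 55], .sub [4, 3, 5, 2, 3, 4, 5, 3, 6, 1, 2, 3, 5, 4, 3, 2, 1, 6, 3, 5, 4, 3, 2, 3, 4] [.done 56, .done 57], .sub [4, 3, 5, 3, 0, 4, 3] [.done 58, .done 59], .sub [6, 3, 5, 2, 3, 4, 6, 3, 2, 5, 3, 6, 5, 3, 6, 1, 2, 3, 5, 4, 3, 2, 1, 6, 3, 5] [.done 60, .done 61], .sub [0, 4, 3, 2, 3, 4, 5, 3, 6, 1, 2, 3, 5, 4, 3, 2, 1, 6, 3, 5, 4, 3, 2, 5, 3, 4] [.done 62, .done 63]],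
  .sub [6, 2, 3, 2, 3, 6, 2, 3, 2, 3, 2, 6, 3, 2] [.sub [] [.done 64, .done 65], .sub [0] [.done 66, .done 67], .sub [3] [.done 68, .done 69], .sub [4, 3, 5, 3, 4] [.done 70, .done 71], .sub [4, 3, 2, 3, 4, 5, 3, 6, 1, 2, 3, 5, 4, 3, 2, 1, 6, 3, 5, 4, 3, 2, 3, 4] [.done 72, .done 73], .sub [3, 0] [.done 74, .done 75], .sub [4, 3, 5, 3, 0, 4] [.done 76, .done 77], .sub [5, 3, 2, 6, 1, 2, 3, 5, 4, 3, 2, 1, 6, 3, 5, 2, 3, 2, 3, 5, 4, 3, 2, 3, 2] [.done 78, .done 79], .sub [4, 3, 5, 3, 4, 3] [.done 80, .done 81], .sub [4, 3, 2, 3, 4, 5, 3, 6, 1, 2, 3, 5, 4, 3, 2, 1, 6, 3, 5, 4, 3, 2, 3, 4, 3] [.done 82, .done 83], .sub [4, 3, 2, 3, 4, 5, 3, 6, 1, 2, 3, 5, 4, 3, 2, 1, 6, 3, 5, 4, 3, 2, 5, 3, 4] [.done 84, .done 85], .sub [2, 3, 2, 3, 4, 5, 3, 2, 3, 2, 5, 3, 6,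 1, 2, 3, 5, 4, 3, 2, 1, 6, 2, 3, 5] [.done 86, .done 87], .sub [4, 3, 5, 2, 3, 4, 5, 3, 6, 1, 2, 3, 5, 4, 3, 2, 1, 6, 3, 5, 4, 3, 2, 3, 4] [.done 88, .done 89], .sub [4, 3, 5, 3, 0, 4, 3] [.done 90, .done 91], .sub [6, 3, 5, 2, 3, 4, 6, 3, 2, 5, 3, 6, 5, 3, 6, 1, 2, 3, 5, 4, 3, 2, 1, 6, 3, 5] [.done 92, .done 93], .sub [0, 4, 3, 2, 3, 4, 5, 3, 6, 1, 2, 3, 5, 4, 3, 2, 1, 6, 3, 5, 4, 3, 2, 5, 3, 4] [.done 94, .done 95]],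
  .sub [5, 3, 2, 3, 5] [.sub [] [.done 96, .done 97], .sub [0] [.done 98, .done 99], .sub [3] [.done 100, .done 101], .sub [4, 3, 5, 3, 4] [.done 102, .done 103], .sub [4, 3, 2, 3, 4, 5, 3, 6, 1, 2, 3, 5, 4, 3, 2, 1, 6, 3, 5, 4, 3, 2, 3, 4] [.done 104, .done 105], .sub [3, 0] [.done 106, .done 107], .sub [4, 3, 5, 3, 0, 4] [.done 108, .done 109], .sub [5, 3, 2, 6, 1, 2, 3, 5, 4, 3, 2, 1, 6, 3, 5, 2, 3, 2, 3, 5, 4, 3, 2, 3, 2] [.done 110, .done 111], .sub [4, 3, 5, 3, 4, 3] [.done 112, .done 113], .sub [4, 3, 2, 3, 4, 5, 3, 6, 1, 2, 3, 5, 4, 3, 2, 1, 6, 3, 5, 4, 3, 2, 3, 4, 3] [.done 114, .done 115], .sub [4, 3, 2, 3, 4, 5, 3, 6, 1, 2, 3, 5, 4, 3, 2, 1, 6, 3, 5, 4, 3, 2, 5, 3, 4] [.done 116, .done 117], .sub [2, 3, 2, 3, 4, 5, 3, 2, 3, 2, 5, 3, 6, 1, 2, 3,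 5, 4, 3, 2, 1, 6, 2, 3, 5] [.done 118, .done 119], .sub [4, 3, 5, 2, 3, 4, 5, 3, 6, 1, 2, 3, 5, 4, 3, 2, 1, 6, 3, 5, 4, 3, 2, 3, 4] [.done 120, .done 121], .sub [4, 3, 5, 3, 0, 4, 3] [.done 122, .done 123], .sub [6, 3, 5, 2, 3, 4, 6, 3, 2, 5, 3, 6, 5, 3, 6, 1, 2, 3, 5, 4, 3, 2, 1, 6, 3, 5] [.done 124, .done 125], .sub [0, 4, 3, 2, 3, 4, 5, 3, 6, 1, 2, 3, 5, 4, 3, 2, 1, 6, 3, 5, 4, 3, 2, 5, 3, 4] [.done 126, .done 127]],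
  .out 22,
  .sub [4, 3, 2, 3, 4, 6, 3, 1, 2, 3, 6, 5, 3, 2, 1, 2, 3, 5, 6, 3, 2, 1, 3, 6] [.sub [] [.done 128, .done 129], .sub [0] [.done 130, .done 131], .sub [3] [.done 132, .done 133], .sub [4, 3, 5, 3, 4] [.done 134, .done 135], .sub [4, 3, 2, 3, 4, 5, 3, 6, 1, 2, 3, 5, 4, 3, 2, 1, 6, 3, 5, 4, 3, 2, 3, 4] [.done 136, .done 137], .sub [3, 0] [.done 138, .done 139], .sub [4, 3, 5, 3, 0, 4] [.done 140, .done 141], .sub [5, 3, 2, 6, 1, 2, 3, 5, 4, 3, 2, 1, 6, 3, 5, 2, 3, 2, 3, 5, 4, 3, 2, 3, 2] [.done 142, .done 143], .sub [4, 3, 5, 3, 4, 3] [.done 144, .done 145], .sub [4, 3, 2, 3, 4, 5, 3, 6, 1, 2, 3, 5, 4, 3, 2, 1, 6, 3, 5, 4, 3, 2, 3, 4, 3] [.done 146, .done 147], .sub [4, 3, 2, 3, 4, 5, 3, 6, 1, 2, 3, 5, 4, 3, 2, 1, 6, 3, 5, 4, 3, 2, 5, 3, 4] [.done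 148, .done 149], .sub [2, 3, 2, 3, 4, 5, 3, 2, 3, 2, 5, 3, 6, 1, 2, 3, 5, 4, 3, 2, 1, 6, 2, 3, 5] [.done 150, .done 151], .sub [4, 3, 5, 2, 3, 4, 5, 3, 6, 1, 2, 3, 5, 4, 3, 2, 1, 6, 3, 5, 4, 3, 2, 3, 4] [.done 152, .done 153], .sub [4, 3, 5, 3, 0, 4, 3] [.done 154, .done 155], .sub [6, 3, 5, 2, 3, 4, 6, 3, 2, 5, 3, 6, 5, 3, 6, 1, 2, 3, 5, 4, 3, 2, 1, 6, 3, 5] [.done 156, .done 157], .sub [0, 4, 3, 2, 3, 4, 5, 3, 6, 1, 2, 3, 5, 4, 3, 2, 1, 6, 3, 5, 4, 3, 2, 5, 3, 4] [.done 158, .done 159]],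
  .sub [4, 3, 2, 3, 4, 6, 3, 0, 1, 2, 3, 6, 5, 3, 2, 1, 2, 3, 5, 6, 3, 2, 1, 3, 6] [.sub [] [.done 160, .done 161], .sub [0] [.done 162, .done 163], .sub [3] [.done 164, .done 165], .sub [4, 3, 5, 3, 4] [.done 166, .done 167], .sub [4, 3, 2, 3, 4, 5, 3, 6, 1, 2, 3, 5, 4, 3, 2, 1, 6, 3, 5, 4, 3, 2, 3, 4] [.done 168, .done 169], .sub [3, 0] [.done 170, .done 171], .sub [4, 3, 5, 3, 0, 4] [.done 172, .done 173], .sub [5, 3, 2, 6, 1, 2, 3, 5, 4, 3, 2, 1, 6, 3, 5, 2, 3, 2, 3, 5, 4, 3, 2, 3, 2] [.done 174, .done 175], .sub [4, 3, 5, 3, 4, 3] [.done 176, .done 177], .sub [4, 3, 2, 3, 4, 5, 3, 6, 1, 2, 3, 5, 4, 3, 2, 1, 6, 3, 5, 4, 3, 2, 3, 4, 3] [.done 178, .done 179], .sub [4, 3, 2, 3, 4, 5, 3, 6, 1, 2, 3, 5, 4, 3, 2, 1, 6, 3, 5, 4, 3, 2, 5, 3, 4] [.done 180,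 .done 181], .sub [2, 3, 2, 3, 4, 5, 3, 2, 3, 2, 5, 3, 6, 1, 2, 3, 5, 4, 3, 2, 1, 6, 2, 3, 5] [.done 182, .done 183], .sub [4, 3, 5, 2, 3, 4, 5, 3, 6, 1, 2, 3, 5, 4, 3, 2, 1, 6, 3, 5, 4, 3, 2, 3, 4] [.done 184, .done 185], .sub [4, 3, 5, 3, 0, 4, 3] [.done 186, .done 187], .sub [6, 3, 5, 2, 3, 4, 6, 3, 2, 5, 3, 6, 5, 3, 6, 1, 2, 3, 5, 4, 3, 2, 1, 6, 3, 5] [.done 188, .done 189], .sub [0, 4, 3, 2, 3, 4, 5, 3, 6, 1, 2, 3, 5, 4, 3, 2, 1, 6, 3, 5, 4, 3, 2, 5, 3, 4] [.done 190, .done 191]],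
  .out 75,
  .out 78,
  .out 79,
  .sub [6, 3, 5, 2, 3, 6, 4, 3, 2, 5, 3, 6] [.sub [] [.done 192, .done 193], .sub [0] [.done 194, .done 195], .sub [3] [.done 196, .done 197], .sub [4, 3, 5, 3, 4] [.done 198, .done 199], .sub [4, 3, 2, 3, 4, 5, 3, 6, 1, 2, 3, 5, 4, 3, 2, 1, 6, 3, 5, 4, 3, 2, 3, 4] [.done 200, .done 201], .sub [3, 0] [.done 202, .done 203], .sub [4, 3, 5, 3, 0, 4] [.done 204, .done 205], .sub [5, 3, 2, 6, 1, 2, 3, 5, 4, 3, 2, 1, 6, 3, 5, 2, 3, 2, 3, 5, 4, 3, 2, 3, 2] [.done 206, .done 207], .sub [4, 3, 5, 3, 4, 3] [.done 208, .done 209], .sub [4, 3, 2, 3, 4, 5, 3, 6, 1, 2, 3, 5, 4, 3, 2, 1, 6, 3, 5, 4, 3, 2, 3, 4, 3] [.done 210, .done 211], .sub [4, 3, 2, 3, 4, 5, 3, 6, 1, 2, 3, 5, 4, 3, 2, 1, 6, 3, 5, 4, 3, 2, 5, 3, 4] [.done 212, .done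 213], .sub [2, 3, 2, 3, 4, 5, 3, 2, 3, 2, 5, 3, 6, 1, 2, 3, 5, 4, 3, 2, 1, 6, 2, 3, 5] [.done 214, .done 215], .sub [4, 3, 5, 2, 3, 4, 5, 3, 6, 1, 2, 3, 5, 4, 3, 2, 1, 6, 3, 5, 4, 3, 2, 3, 4] [.done 216, .done 217], .sub [4, 3, 5, 3, 0, 4, 3] [.done 218, .done 219], .sub [6, 3, 5, 2, 3, 4, 6, 3, 2, 5, 3, 6, 5, 3, 6, 1, 2, 3, 5, 4, 3, 2, 1, 6, 3, 5] [.done 220, .done 221], .sub [0, 4, 3, 2, 3, 4, 5, 3, 6, 1, 2, 3, 5, 4, 3, 2, 1, 6, 3, 5, 4, 3, 2, 5, 3, 4] [.done 222, .done 223]],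
  .sub [2, 3, 2, 3, 5, 3, 2, 3, 2] [.sub [] [.done 224, .done 225], .sub [0] [.done 226, .done 227], .sub [3] [.done 228, .done 229], .sub [4, 3, 5, 3, 4] [.done 230, .done 231], .sub [4, 3, 2, 3, 4, 5, 3, 6, 1, 2, 3, 5, 4, 3, 2, 1, 6, 3, 5, 4, 3, 2, 3, 4] [.done 232, .done 233], .sub [3, 0] [.done 234, .done 235], .sub [4, 3, 5, 3, 0, 4] [.done 236, .done 237], .sub [5, 3, 2, 6, 1, 2, 3, 5, 4, 3, 2, 1, 6, 3, 5, 2, 3, 2, 3, 5, 4, 3, 2, 3, 2] [.done 238, .done 239], .sub [4, 3, 5, 3, 4, 3] [.done 240, .done 241], .sub [4, 3, 2, 3, 4, 5, 3, 6, 1, 2, 3, 5, 4, 3, 2, 1, 6, 3, 5, 4, 3, 2, 3, 4, 3] [.done 242, .done 243], .sub [4, 3, 2, 3, 4, 5, 3, 6, 1, 2, 3, 5, 4, 3, 2, 1, 6, 3, 5, 4, 3, 2, 5, 3, 4] [.done 244, .done 245], .sub [2, 3, 2, 3, 4, 5, 3, 2, 3, 2,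 5, 3, 6, 1, 2, 3, 5, 4, 3, 2, 1, 6, 2, 3, 5] [.done 246, .done 247], .sub [4, 3, 5, 2, 3, 4, 5, 3, 6, 1, 2, 3, 5, 4, 3, 2, 1, 6, 3, 5, 4, 3, 2, 3, 4] [.done 248, .done 249], .sub [4, 3, 5, 3, 0, 4, 3] [.done 250, .done 251], .sub [6, 3, 5, 2, 3, 4, 6, 3, 2, 5, 3, 6, 5, 3, 6, 1, 2, 3, 5, 4, 3, 2, 1, 6, 3, 5] [.done 252, .done 253], .sub [0, 4, 3, 2, 3, 4, 5, 3, 6, 1, 2, 3, 5, 4, 3, 2, 1, 6, 3, 5, 4, 3, 2, 5, 3, 4] [.done 254, .done 255]],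
  .out 157,
  .out 244,
  .out 253,
  .sub [5, 3, 2, 3, 5, 4, 3, 2, 3, 4] [.sub [] [.done 256, .done 257], .sub [0] [.done 258, .done 259], .sub [3] [.done 260, .done 261], .sub [4, 3, 5, 3, 4] [.done 262, .done 263], .sub [4, 3, 2, 3, 4, 5, 3, 6, 1, 2, 3, 5, 4, 3, 2, 1, 6, 3, 5, 4, 3, 2, 3, 4] [.done 264, .done 265], .sub [3, 0] [.done 266, .done 267], .sub [4, 3, 5, 3, 0, 4] [.done 268, .done 269], .sub [5, 3, 2, 6, 1, 2, 3, 5, 4, 3, 2, 1, 6, 3, 5, 2, 3, 2, 3, 5, 4, 3, 2, 3, 2] [.done 270, .done 271], .sub [4, 3, 5, 3, 4, 3] [.done 272, .done 273], .sub [4, 3, 2, 3, 4, 5, 3, 6, 1, 2, 3, 5, 4, 3, 2, 1, 6, 3, 5, 4, 3, 2, 3, 4, 3] [.done 274, .done 275], .sub [4, 3, 2, 3, 4, 5, 3, 6, 1, 2, 3, 5, 4, 3, 2, 1, 6, 3, 5, 4, 3, 2, 5, 3, 4] [.done 276, .done 277],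 .sub [2, 3, 2, 3, 4, 5, 3, 2, 3, 2, 5, 3, 6, 1, 2, 3, 5, 4, 3, 2, 1, 6, 2, 3, 5] [.done 278, .done 279], .sub [4, 3, 5, 2, 3, 4, 5, 3, 6, 1, 2, 3, 5, 4, 3, 2, 1, 6, 3, 5, 4, 3, 2, 3, 4] [.done 280, .done 281], .sub [4, 3, 5, 3, 0, 4, 3] [.done 282, .done 283], .sub [6, 3, 5, 2, 3, 4, 6, 3, 2, 5, 3, 6, 5, 3, 6, 1, 2, 3, 5, 4, 3, 2, 1, 6, 3, 5] [.done 284, .done 285], .sub [0, 4, 3, 2, 3, 4, 5, 3, 6, 1, 2, 3, 5, 4, 3, 2, 1, 6, 3, 5, 4, 3, 2, 5, 3, 4] [.done 286, .done 287]],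
  .out 268,
  .sub [6, 3, 1, 2, 3, 6, 5, 3, 2, 1, 2, 3, 5, 6, 3, 2, 1, 3, 6] [.sub [] [.done 288, .done 289], .sub [0] [.done 290, .done 291], .sub [3] [.done 292, .done 293], .sub [4, 3, 5, 3, 4] [.done 294, .done 295], .sub [4, 3, 2, 3, 4, 5, 3, 6, 1, 2, 3, 5, 4, 3, 2, 1, 6, 3, 5, 4, 3, 2, 3, 4] [.done 296, .done 297], .sub [3, 0] [.done 298, .done 299], .sub [4, 3, 5, 3, 0, 4] [.done 300, .done 301], .sub [5, 3, 2, 6, 1, 2, 3, 5, 4, 3, 2, 1, 6, 3, 5, 2, 3, 2, 3, 5, 4, 3, 2, 3, 2] [.done 302, .done 303], .sub [4, 3, 5, 3, 4, 3] [.done 304, .done 305], .sub [4, 3, 2, 3, 4, 5, 3, 6, 1, 2, 3, 5, 4, 3, 2, 1, 6, 3, 5, 4, 3, 2, 3, 4, 3] [.done 306, .done 307], .sub [4, 3, 2, 3, 4, 5, 3, 6, 1, 2, 3, 5, 4, 3, 2, 1, 6, 3, 5, 4, 3, 2, 5, 3, 4] [.done 308, .done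 309], .sub [2, 3, 2, 3, 4, 5, 3, 2, 3, 2, 5, 3, 6, 1, 2, 3, 5, 4, 3, 2, 1, 6, 2, 3, 5] [.done 310, .done 311], .sub [4, 3, 5, 2, 3, 4, 5, 3, 6, 1, 2, 3, 5, 4, 3, 2, 1, 6, 3, 5, 4, 3, 2, 3, 4] [.done 312, .done 313], .sub [4, 3, 5, 3, 0, 4, 3] [.done 314, .done 315], .sub [6, 3, 5, 2, 3, 4, 6, 3, 2, 5, 3, 6, 5, 3, 6, 1, 2, 3, 5, 4, 3, 2, 1, 6, 3, 5] [.done 316, .done 317], .sub [0, 4, 3, 2, 3, 4, 5, 3, 6, 1, 2, 3, 5, 4, 3, 2, 1, 6, 3, 5, 4, 3, 2, 5, 3, 4] [.done 318, .done 319]],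
  .out 425,
  .out 429,
  .out 434,
  .out 437,
  .out 440,
  .sub [2, 3, 2, 3, 5, 4, 3, 2, 3, 2] [.sub [] [.done 320, .done 321], .sub [0] [.done 322, .done 323], .sub [3] [.done 324, .done 325], .sub [4, 3, 5, 3, 4] [.done 326, .done 327], .sub [4, 3, 2, 3, 4, 5, 3, 6, 1, 2, 3, 5, 4, 3, 2, 1, 6, 3, 5, 4, 3, 2, 3, 4] [.done 328, .done 329], .sub [3, 0] [.done 330, .done 331], .sub [4, 3, 5, 3, 0, 4] [.done 332, .done 333], .sub [5, 3, 2, 6, 1, 2, 3, 5, 4, 3, 2, 1, 6, 3, 5, 2, 3, 2, 3, 5, 4, 3, 2, 3, 2] [.done 334, .done 335], .sub [4, 3, 5, 3, 4, 3] [.done 336, .done 337], .sub [4, 3, 2, 3, 4, 5, 3, 6, 1, 2, 3, 5, 4, 3, 2, 1, 6, 3, 5, 4, 3, 2, 3, 4, 3] [.done 338, .done 339], .sub [4, 3, 2, 3, 4, 5, 3, 6, 1, 2, 3, 5, 4, 3, 2, 1, 6, 3, 5, 4, 3, 2, 5, 3,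 4] [.done 340, .done 341], .sub [2, 3, 2, 3, 4, 5, 3, 2, 3, 2, 5, 3, 6, 1, 2, 3, 5, 4, 3, 2, 1, 6, 2, 3, 5] [.done 342, .done 343], .sub [4, 3, 5, 2, 3, 4, 5, 3, 6, 1, 2, 3, 5, 4, 3, 2, 1, 6, 3, 5, 4, 3, 2, 3, 4] [.done 344, .done 345], .sub [4, 3, 5, 3, 0, 4, 3] [.done 346, .done 347], .sub [6, 3, 5, 2, 3, 4, 6, 3, 2, 5, 3, 6, 5, 3, 6, 1, 2, 3, 5, 4, 3, 2, 1, 6, 3, 5] [.done 348, .done 349], .sub [0, 4, 3, 2, 3, 4, 5, 3, 6, 1, 2, 3, 5, 4, 3, 2, 1, 6, 3, 5, 4, 3, 2, 5, 3, 4] [.done 350, .done 351]],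
  .sub [6, 3, 0, 1, 2, 3, 6, 5, 3, 2, 1, 2, 3, 5, 6, 3, 2, 1, 3, 6] [.sub [] [.done 352, .done 353], .sub [0] [.done 354, .done 355], .sub [3] [.done 356, .done 357], .sub [4, 3, 5, 3, 4] [.done 358, .done 359], .sub [4, 3, 2, 3, 4, 5, 3, 6, 1, 2, 3, 5, 4, 3, 2, 1, 6, 3, 5, 4, 3, 2, 3, 4] [.done 360, .done 361], .sub [3, 0] [.done 362, .done 363], .sub [4, 3, 5, 3, 0, 4] [.done 364, .done 365], .sub [5, 3, 2, 6, 1, 2, 3, 5, 4, 3, 2, 1, 6, 3, 5, 2, 3, 2, 3, 5, 4, 3, 2, 3, 2] [.done 366, .done 367], .sub [4, 3, 5, 3, 4, 3] [.done 368, .done 369], .sub [4, 3, 2, 3, 4, 5, 3, 6, 1, 2, 3, 5, 4, 3, 2, 1, 6, 3, 5, 4, 3, 2, 3, 4, 3] [.done 370, .done 371], .sub [4, 3, 2, 3, 4, 5, 3, 6, 1, 2, 3, 5, 4, 3, 2, 1, 6, 3, 5, 4, 3, 2, 5, 3, 4] [.done 372, .done 373], .sub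 [2, 3, 2, 3, 4, 5, 3, 2, 3, 2, 5, 3, 6, 1, 2, 3, 5, 4, 3, 2, 1, 6, 2, 3, 5] [.done 374, .done 375], .sub [4, 3, 5, 2, 3, 4, 5, 3, 6, 1, 2, 3, 5, 4, 3, 2, 1, 6, 3, 5, 4, 3, 2, 3, 4] [.done 376, .done 377], .sub [4, 3, 5, 3, 0, 4, 3] [.done 378, .done 379], .sub [6, 3, 5, 2, 3, 4, 6, 3, 2, 5, 3, 6, 5, 3, 6, 1, 2, 3, 5, 4, 3, 2, 1, 6, 3, 5] [.done 380, .done 381], .sub [0, 4, 3, 2, 3, 4, 5, 3, 6, 1, 2, 3, 5, 4, 3, 2, 1, 6, 3, 5, 4, 3, 2, 5, 3, 4] [.done 382, .done 383]],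
  .sub [5, 3, 2, 3, 5, 4, 3, 2, 3, 4, 6, 3, 1, 2, 3, 6, 5, 3, 2, 1, 2, 3, 5, 6, 3, 2, 1, 3, 6] [.sub [] [.done 384, .done 385], .sub [0] [.done 386, .done 387], .sub [3] [.done 388, .done 389], .sub [4, 3, 5, 3, 4] [.done 390, .done 391], .sub [4, 3, 2, 3, 4, 5, 3, 6, 1, 2, 3, 5, 4, 3, 2, 1, 6, 3, 5, 4, 3, 2, 3, 4] [.done 392, .done 393], .sub [3, 0] [.done 394, .done 395], .sub [4, 3, 5, 3, 0, 4] [.done 396, .done 397], .sub [5, 3, 2, 6, 1, 2, 3, 5, 4, 3, 2, 1, 6, 3, 5, 2, 3, 2, 3, 5, 4, 3, 2, 3, 2] [.done 398, .done 399], .sub [4, 3, 5, 3, 4, 3] [.done 400, .done 401], .sub [4, 3, 2, 3, 4, 5, 3, 6, 1, 2, 3, 5, 4, 3, 2, 1, 6, 3, 5, 4, 3, 2, 3, 4, 3] [.done 402, .done 403], .sub [4, 3, 2, 3, 4, 5, 3, 6, 1, 2, 3, 5, 4, 3, 2, 1, 6, 3, 5, 4, 3, 2, 5, 3, 4]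 [.done 404, .done 405], .sub [2, 3, 2, 3, 4, 5, 3, 2, 3, 2, 5, 3, 6, 1, 2, 3, 5, 4, 3, 2, 1, 6, 2, 3, 5] [.done 406, .done 407], .sub [4, 3, 5, 2, 3, 4, 5, 3, 6, 1, 2, 3, 5, 4, 3, 2, 1, 6, 3, 5, 4, 3, 2, 3, 4] [.done 408, .done 409], .sub [4, 3, 5, 3, 0, 4, 3] [.done 410, .done 411], .sub [6, 3, 5, 2, 3, 4, 6, 3, 2, 5, 3, 6, 5, 3, 6, 1, 2, 3, 5, 4, 3, 2, 1, 6, 3, 5] [.done 412, .done 413], .sub [0, 4, 3, 2, 3, 4, 5, 3, 6, 1, 2, 3, 5, 4, 3, 2, 1, 6, 3, 5, 4, 3, 2, 5, 3, 4] [.done 414, .done 415]],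
  .out 506,
  .out 722,
  .out 732,
  .out 743,
  .out 744,
  .out 749,
  .sub [5, 3, 2, 3, 5, 4, 3, 2, 3, 4, 6, 3, 0, 1, 2, 3, 6, 5, 3, 2, 1, 2, 3, 5, 6, 3, 2, 1, 3, 6] [.sub [] [.done 416, .done 417], .sub [0] [.done 418, .done 419], .sub [3] [.done 420, .done 421], .sub [4, 3, 5, 3, 4] [.done 422, .done 423], .sub [4, 3, 2, 3, 4, 5, 3, 6, 1, 2, 3, 5, 4, 3, 2, 1, 6, 3, 5, 4, 3, 2, 3, 4] [.done 424, .done 425], .sub [3, 0] [.done 426, .done 427], .sub [4, 3, 5, 3, 0, 4] [.done 428, .done 429], .sub [5, 3, 2, 6, 1, 2, 3, 5, 4, 3, 2, 1, 6, 3, 5, 2, 3, 2, 3, 5, 4, 3, 2, 3, 2] [.done 430, .done 431], .sub [4, 3, 5, 3, 4, 3] [.done 432, .done 433], .sub [4, 3, 2, 3, 4, 5, 3, 6, 1, 2, 3, 5, 4, 3, 2, 1, 6, 3, 5, 4, 3, 2, 3, 4, 3] [.done 434, .done 435], .sub [4,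 3, 2, 3, 4, 5, 3, 6, 1, 2, 3, 5, 4, 3, 2, 1, 6, 3, 5, 4, 3, 2, 5, 3, 4] [.done 436, .done 437], .sub [2, 3, 2, 3, 4, 5, 3, 2, 3, 2, 5, 3, 6, 1, 2, 3, 5, 4, 3, 2, 1, 6, 2, 3, 5] [.done 438, .done 439], .sub [4, 3, 5, 2, 3, 4, 5, 3, 6, 1, 2, 3, 5, 4, 3, 2, 1, 6, 3, 5, 4, 3, 2, 3, 4] [.done 440, .done 441], .sub [4, 3, 5, 3, 0, 4, 3] [.done 442, .done 443], .sub [6, 3, 5, 2, 3, 4, 6, 3, 2, 5, 3, 6, 5, 3, 6, 1, 2, 3, 5, 4, 3, 2, 1, 6, 3, 5] [.done 444, .done 445], .sub [0, 4, 3, 2, 3, 4, 5, 3, 6, 1, 2, 3, 5, 4, 3, 2, 1, 6, 3, 5, 4, 3, 2, 5, 3, 4] [.done 446, .done 447]],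
  .out 776,
  .out 847,
  .out 1178,
  .out 1214,
  .out 1683,
  .sub [5, 3, 2, 3, 5, 6, 3, 1, 2, 3, 6, 5, 3, 2, 1, 2, 3, 5, 6, 3, 2, 1, 3, 6] [.sub [] [.done 448, .done 449], .sub [0] [.done 450, .done 451], .sub [3] [.done 452, .done 453], .sub [4, 3, 5, 3, 4] [.done 454, .done 455], .sub [4, 3, 2, 3, 4, 5, 3, 6, 1, 2, 3, 5, 4, 3, 2, 1, 6, 3, 5, 4, 3, 2, 3, 4] [.done 456, .done 457], .sub [3, 0] [.done 458, .done 459], .sub [4, 3, 5, 3, 0, 4] [.done 460, .done 461], .sub [5, 3, 2, 6, 1, 2, 3, 5, 4, 3, 2, 1, 6, 3, 5, 2, 3, 2, 3, 5, 4, 3, 2, 3, 2] [.done 462, .done 463], .sub [4, 3, 5, 3, 4, 3] [.done 464, .done 465], .sub [4, 3, 2, 3, 4, 5, 3, 6, 1, 2, 3, 5, 4, 3, 2, 1, 6, 3, 5, 4, 3, 2, 3, 4, 3] [.done 466, .done 467], .sub [4, 3, 2, 3, 4, 5, 3, 6, 1,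 2, 3, 5, 4, 3, 2, 1, 6, 3, 5, 4, 3, 2, 5, 3, 4] [.done 468, .done 469], .sub [2, 3, 2, 3, 4, 5, 3, 2, 3, 2, 5, 3, 6, 1, 2, 3, 5, 4, 3, 2, 1, 6, 2, 3, 5] [.done 470, .done 471], .sub [4, 3, 5, 2, 3, 4, 5, 3, 6, 1, 2, 3, 5, 4, 3, 2, 1, 6, 3, 5, 4, 3, 2, 3, 4] [.done 472, .done 473], .sub [4, 3, 5, 3, 0, 4, 3] [.done 474, .done 475], .sub [6, 3, 5, 2, 3, 4, 6, 3, 2, 5, 3, 6, 5, 3, 6, 1, 2, 3, 5, 4, 3, 2, 1, 6, 3, 5] [.done 476, .done 477], .sub [0, 4, 3, 2, 3, 4, 5, 3, 6, 1, 2, 3, 5, 4, 3, 2, 1, 6, 3, 5, 4, 3, 2, 5, 3, 4] [.done 478, .done 479]],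
  .sub [5, 3, 2, 3, 5, 6, 3, 0, 1, 2, 3, 6, 5, 3, 2, 1, 2, 3, 5, 6, 3, 2, 1, 3, 6] [.sub [] [.done 480, .done 481], .sub [0] [.done 482, .done 483], .sub [3] [.done 484, .done 485], .sub [4, 3, 5, 3, 4] [.done 486, .done 487], .sub [4, 3, 2, 3, 4, 5, 3, 6, 1, 2, 3, 5, 4, 3, 2, 1, 6, 3, 5, 4, 3, 2, 3, 4] [.done 488, .done 489], .sub [3, 0] [.done 490, .done 491], .sub [4, 3, 5, 3, 0, 4] [.done 492, .done 493], .sub [5, 3, 2, 6, 1, 2, 3, 5, 4, 3, 2, 1, 6, 3, 5, 2, 3, 2, 3, 5, 4, 3, 2, 3, 2] [.done 494, .done 495], .sub [4, 3, 5, 3, 4, 3] [.done 496, .done 497], .sub [4, 3, 2, 3, 4, 5, 3, 6, 1, 2, 3, 5, 4, 3, 2, 1, 6, 3, 5, 4, 3, 2, 3, 4, 3] [.done 498, .done 499], .sub [4, 3, 2, 3, 4, 5, 3, 6, 1, 2, 3, 5, 4, 3, 2, 1, 6, 3, 5, 4, 3, 2, 5, 3, 4] [.done 500,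 .done 501], .sub [2, 3, 2, 3, 4, 5, 3, 2, 3, 2, 5, 3, 6, 1, 2, 3, 5, 4, 3, 2, 1, 6, 2, 3, 5] [.done 502, .done 503], .sub [4, 3, 5, 2, 3, 4, 5, 3, 6, 1, 2, 3, 5, 4, 3, 2, 1, 6, 3, 5, 4, 3, 2, 3, 4] [.done 504, .done 505], .sub [4, 3, 5, 3, 0, 4, 3] [.done 506, .done 507], .sub [6, 3, 5, 2, 3, 4, 6, 3, 2, 5, 3, 6, 5, 3, 6, 1, 2, 3, 5, 4, 3, 2, 1, 6, 3, 5] [.done 508, .done 509], .sub [0, 4, 3, 2, 3, 4, 5, 3, 6, 1, 2, 3, 5, 4, 3, 2, 1, 6, 3, 5, 4, 3, 2, 5, 3, 4] [.done 510, .done 511]],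
  .out 1934]

/-- The branches. -/
def kids0 : List Branch := kids0Part0

end CfsgLib.Spor.HeInvCent
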