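/-
Branches of the search.
-/
import Cfsg.Agent.Lib.Spor.ActCert.Search

set_option autoImplicit false
set_option maxRecDepth 100000
set_option maxHeartbeats 0

namespace CfsgLib.Spor.HeInvCent

open CfsgLib.Spor.TC CfsgLib.Spor.ActCert

/-- Branches. -/
def kids1Part0 : List Branch := [
  .out 0,
  .sub [] [.sub [] [.bad [] 2, .bad [3, 0, 1, 0, 1] 2], .sub [0] [.bad [] 2, .bad [3, 0, 1, 0, 1] 2], .sub [3] [.bad [] 2, .bad [3, 0, 1, 0, 1] 2], .sub [4, 3, 5, 3, 4] [.bad [] 2, .bad [3, 0, 1, 0, 1] 2], .sub [4, 3, 2, 3, 4, 5, 3, 6, 1, 2, 3, 5, 4, 3, 2, 1, 6, 3, 5, 4, 3, 2, 3, 4] [.bad [] 2, .bad [3, 0, 1, 0, 1] 2], .sub [3, 0] [.bad [] 2, .bad [3, 0, 1, 0, 1] 2], .sub [4, 3, 5, 3, 0, 4] [.bad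 [] 2, .bad [3, 0, 1, 0, 1] 2], .sub [5, 3, 2, 6, 1, 2, 3, 5, 4, 3, 2, 1, 6, 3, 5, 2, 3, 2, 3, 5, 4, 3, 2, 3, 2] [.bad [] 2, .bad [3, 0, 1, 0, 1] 2], .sub [4, 3, 5, 3, 4, 3] [.bad [] 2, .bad [3, 0, 1, 0, 1] 2], .sub [4, 3, 2, 3, 4, 5, 3, 6, 1, 2, 3, 5, 4, 3, 2, 1, 6, 3, 5, 4, 3, 2, 3, 4, 3] [.bad [] 2, .bad [3, 0, 1, 0, 1] 2], .sub [4, 3, 2, 3, 4, 5, 3, 6, 1, 2, 3, 5, 4, 3, 2, 1, 6, 3, 5, 4, 3, 2, 5, 3, 4] [.bad [] 2, .bad [3, 0, 1, 0, 1] 2], .sub [2, 3, 2, 3, 4, 5, 3, 2, 3, 2, 5, 3, 6, 1, 2, 3, 5, 4, 3, 2, 1, 6, 2, 3, 5] [.bad [] 2, .bad [3, 0, 1, 0, 1] 2], .sub [4, 3, 5, 2, 3, 4, 5, 3, 6, 1, 2, 3, 5, 4, 3, 2, 1, 6, 3, 5, 4, 3, 2, 3, 4] [.bad [] 2, .bad [3, 0, 1, 0, 1] 2], .sub [4, 3, 5,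 3, 0, 4, 3] [.bad [] 2, .bad [3, 0, 1, 0, 1] 2], .sub [6, 3, 5, 2, 3, 4, 6, 3, 2, 5, 3, 6, 5, 3, 6, 1, 2, 3, 5, 4, 3, 2, 1, 6, 3, 5] [.bad [] 2, .bad [3, 0, 1, 0, 1] 2], .sub [0, 4, 3, 2, 3, 4, 5, 3, 6, 1, 2, 3, 5, 4, 3, 2, 1, 6, 3, 5, 4, 3, 2, 5, 3, 4] [.bad [] 2, .bad [3, 0, 1, 0, 1] 2]],
  .sub [5, 3, 2, 3, 5] [.sub [] [.bad [] 2, .bad [3, 0, 1, 0, 1] 2], .sub [0] [.bad [] 2, .bad [3, 0, 1, 0, 1] 2], .sub [3] [.bad [] 2, .bad [3, 0, 1, 0, 1] 2], .sub [4, 3, 5, 3, 4] [.bad [] 2, .bad [3, 0, 1, 0, 1] 2], .sub [4, 3, 2, 3, 4, 5, 3, 6, 1, 2, 3, 5, 4, 3, 2, 1, 6, 3, 5, 4, 3, 2, 3, 4] [.bad [] 2, .bad [3, 0, 1, 0, 1] 2], .sub [3, 0] [.bad [] 2, .bad [3, 0, 1, 0, 1] 2], .sub [4, 3, 5, 3, 0,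 4] [.bad [] 2, .bad [3, 0, 1, 0, 1] 2], .sub [5, 3, 2, 6, 1, 2, 3, 5, 4, 3, 2, 1, 6, 3, 5, 2, 3, 2, 3, 5, 4, 3, 2, 3, 2] [.bad [] 2, .bad [3, 0, 1, 0, 1] 2], .sub [4, 3, 5, 3, 4, 3] [.bad [] 2, .bad [3, 0, 1, 0, 1] 2], .sub [4, 3, 2, 3, 4, 5, 3, 6, 1, 2, 3, 5, 4, 3, 2, 1, 6, 3, 5, 4, 3, 2, 3, 4, 3] [.bad [] 2, .bad [3, 0, 1, 0, 1] 2], .sub [4, 3, 2, 3, 4, 5, 3, 6, 1, 2, 3, 5, 4, 3, 2, 1, 6, 3, 5, 4, 3, 2, 5, 3, 4] [.bad [] 2, .bad [3, 0, 1, 0, 1] 2], .sub [2, 3, 2, 3, 4, 5, 3, 2, 3, 2, 5, 3, 6, 1, 2, 3, 5, 4, 3, 2, 1, 6, 2, 3, 5] [.bad [] 2, .bad [3, 0, 1, 0, 1] 2], .sub [4, 3, 5, 2, 3, 4, 5, 3, 6, 1, 2, 3, 5, 4, 3, 2, 1, 6, 3, 5, 4, 3, 2, 3, 4] [.bad [] 2, .bad [3, 0, 1, 0, 1] 2], .sub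 [4, 3, 5, 3, 0, 4, 3] [.bad [] 2, .bad [3, 0, 1, 0, 1] 2], .sub [6, 3, 5, 2, 3, 4, 6, 3, 2, 5, 3, 6, 5, 3, 6, 1, 2, 3, 5, 4, 3, 2, 1, 6, 3, 5] [.bad [] 2, .bad [3, 0, 1, 0, 1] 2], .sub [0, 4, 3, 2, 3, 4, 5, 3, 6, 1, 2, 3, 5, 4, 3, 2, 1, 6, 3, 5, 4, 3, 2, 5, 3, 4] [.bad [] 2, .bad [3, 0, 1, 0, 1] 2]],
  .sub [6, 2, 3, 2, 3, 6, 2, 3, 2, 3, 2, 6, 3, 2] [.sub [] [.bad [] 2, .bad [3, 0, 1, 0, 1] 2], .sub [0] [.bad [] 2, .bad [3, 0, 1, 0, 1] 2], .sub [3] [.bad [] 2, .bad [3, 0, 1, 0, 1] 2], .sub [4, 3, 5, 3, 4] [.bad [] 2, .bad [3, 0, 1, 0, 1] 2], .sub [4, 3, 2, 3, 4, 5, 3, 6, 1, 2, 3, 5, 4, 3, 2, 1, 6, 3, 5, 4, 3, 2, 3, 4] [.bad [] 2, .bad [3, 0, 1, 0, 1] 2], .sub [3, 0] [.bad [] 2, .bad [3,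 0, 1, 0, 1] 2], .sub [4, 3, 5, 3, 0, 4] [.bad [] 2, .bad [3, 0, 1, 0, 1] 2], .sub [5, 3, 2, 6, 1, 2, 3, 5, 4, 3, 2, 1, 6, 3, 5, 2, 3, 2, 3, 5, 4, 3, 2, 3, 2] [.bad [] 2, .bad [3, 0, 1, 0, 1] 2], .sub [4, 3, 5, 3, 4, 3] [.bad [] 2, .bad [3, 0, 1, 0, 1] 2], .sub [4, 3, 2, 3, 4, 5, 3, 6, 1, 2, 3, 5, 4, 3, 2, 1, 6, 3, 5, 4, 3, 2, 3, 4, 3] [.bad [] 2, .bad [3, 0, 1, 0, 1] 2], .sub [4, 3, 2, 3, 4, 5, 3, 6, 1, 2, 3, 5, 4, 3, 2, 1, 6, 3, 5, 4, 3, 2, 5, 3, 4] [.bad [] 2, .bad [3, 0, 1, 0, 1] 2], .sub [2, 3, 2, 3, 4, 5, 3, 2, 3, 2, 5, 3, 6, 1, 2, 3, 5, 4, 3, 2, 1, 6, 2, 3, 5] [.bad [] 2, .bad [3, 0, 1, 0, 1] 2], .sub [4, 3, 5, 2, 3, 4, 5, 3, 6, 1, 2, 3, 5, 4, 3, 2, 1, 6, 3, 5, 4, 3, 2, 3, 4] [.bad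 [] 2, .bad [3, 0, 1, 0, 1] 2], .sub [4, 3, 5, 3, 0, 4, 3] [.bad [] 2, .bad [3, 0, 1, 0, 1] 2], .sub [6, 3, 5, 2, 3, 4, 6, 3, 2, 5, 3, 6, 5, 3, 6, 1, 2, 3, 5, 4, 3, 2, 1, 6, 3, 5] [.bad [] 2, .bad [3, 0, 1, 0, 1] 2], .sub [0, 4, 3, 2, 3, 4, 5, 3, 6, 1, 2, 3, 5, 4, 3, 2, 1, 6, 3, 5, 4, 3, 2, 5, 3, 4] [.bad [] 2, .bad [3, 0, 1, 0, 1] 2]],
  .sub [4, 3, 2, 3, 4] [.sub [] [.bad [] 2, .bad [3, 0, 1, 0, 1] 2], .sub [0] [.bad [] 2, .bad [3, 0, 1, 0, 1] 2], .sub [3] [.bad [] 2, .bad [3, 0, 1, 0, 1] 2], .sub [4, 3, 5, 3, 4] [.bad [] 2, .bad [3, 0, 1, 0, 1] 2], .sub [4, 3, 2, 3, 4, 5, 3, 6, 1, 2, 3, 5, 4, 3, 2, 1, 6, 3, 5, 4, 3, 2, 3, 4] [.bad [] 2, .bad [3, 0, 1, 0, 1] 2], .sub [3, 0] [.bad [] 2,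 .bad [3, 0, 1, 0, 1] 2], .sub [4, 3, 5, 3, 0, 4] [.bad [] 2, .bad [3, 0, 1, 0, 1] 2], .sub [5, 3, 2, 6, 1, 2, 3, 5, 4, 3, 2, 1, 6, 3, 5, 2, 3, 2, 3, 5, 4, 3, 2, 3, 2] [.bad [] 2, .bad [3, 0, 1, 0, 1] 2], .sub [4, 3, 5, 3, 4, 3] [.bad [] 2, .bad [3, 0, 1, 0, 1] 2], .sub [4, 3, 2, 3, 4, 5, 3, 6, 1, 2, 3, 5, 4, 3, 2, 1, 6, 3, 5, 4, 3, 2, 3, 4, 3] [.bad [] 2, .bad [3, 0, 1, 0, 1] 2], .sub [4, 3, 2, 3, 4, 5, 3, 6, 1, 2, 3, 5, 4, 3, 2, 1, 6, 3, 5, 4, 3, 2, 5, 3, 4] [.bad [] 2, .bad [3, 0, 1, 0, 1] 2], .sub [2, 3, 2, 3, 4, 5, 3, 2, 3, 2, 5, 3, 6, 1, 2, 3, 5, 4, 3, 2, 1, 6, 2, 3, 5] [.bad [] 2, .bad [3, 0, 1, 0, 1] 2], .sub [4, 3, 5, 2, 3, 4, 5, 3, 6, 1, 2, 3, 5, 4, 3, 2, 1, 6, 3, 5, 4, 3, 2, 3,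 4] [.bad [] 2, .bad [3, 0, 1, 0, 1] 2], .sub [4, 3, 5, 3, 0, 4, 3] [.bad [] 2, .bad [3, 0, 1, 0, 1] 2], .sub [6, 3, 5, 2, 3, 4, 6, 3, 2, 5, 3, 6, 5, 3, 6, 1, 2, 3, 5, 4, 3, 2, 1, 6, 3, 5] [.bad [] 2, .bad [3, 0, 1, 0, 1] 2], .sub [0, 4, 3, 2, 3, 4, 5, 3, 6, 1, 2, 3, 5, 4, 3, 2, 1, 6, 3, 5, 4, 3, 2, 5, 3, 4] [.bad [] 2, .bad [3, 0, 1, 0, 1] 2]],
  .out 47,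
  .out 58,
  .out 102,
  .out 90,
  .out 79,
  .out 78,
  .sub [2, 3, 2, 3, 5, 3, 2, 3, 2] [.sub [] [.bad [] 2, .bad [3, 0, 1, 0, 1] 2], .sub [0] [.bad [] 2, .bad [3, 0, 1, 0, 1] 2], .sub [3] [.bad [] 2, .bad [3, 0, 1, 0, 1] 2], .sub [4, 3, 5, 3, 4] [.bad [] 2, .bad [3, 0, 1, 0, 1] 2], .sub [4, 3, 2, 3, 4, 5, 3, 6, 1, 2, 3, 5, 4, 3, 2, 1, 6, 3, 5, 4, 3, 2, 3, 4] [.bad [] 2, .bad [3, 0, 1, 0, 1] 2], .sub [3, 0] [.bad [] 2, .bad [3, 0, 1, 0, 1] 2], .sub [4, 3, 5, 3, 0, 4] [.bad [] 2, .bad [3, 0, 1, 0, 1] 2], .sub [5, 3, 2, 6, 1, 2, 3, 5, 4, 3, 2, 1, 6, 3, 5, 2, 3, 2, 3, 5, 4, 3, 2, 3, 2] [.bad [] 2, .bad [3, 0, 1, 0, 1] 2], .sub [4, 3, 5, 3, 4, 3] [.bad [] 2, .bad [3, 0, 1, 0, 1] 2], .sub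 [4, 3, 2, 3, 4, 5, 3, 6, 1, 2, 3, 5, 4, 3, 2, 1, 6, 3, 5, 4, 3, 2, 3, 4, 3] [.bad [] 2, .bad [3, 0, 1, 0, 1] 2], .sub [4, 3, 2, 3, 4, 5, 3, 6, 1, 2, 3, 5, 4, 3, 2, 1, 6, 3, 5, 4, 3, 2, 5, 3, 4] [.bad [] 2, .bad [3, 0, 1, 0, 1] 2], .sub [2, 3, 2, 3, 4, 5, 3, 2, 3, 2, 5, 3, 6, 1, 2, 3, 5, 4, 3, 2, 1, 6, 2, 3, 5] [.bad [] 2, .bad [3, 0, 1, 0, 1] 2], .sub [4, 3, 5, 2, 3, 4, 5, 3, 6, 1, 2, 3, 5, 4, 3, 2, 1, 6, 3, 5, 4, 3, 2, 3, 4] [.bad [] 2, .bad [3, 0, 1, 0, 1] 2], .sub [4, 3, 5, 3, 0, 4, 3] [.bad [] 2, .bad [3, 0, 1, 0, 1] 2], .sub [6, 3, 5, 2, 3, 4, 6, 3, 2, 5, 3, 6, 5, 3, 6, 1, 2, 3, 5, 4, 3, 2, 1, 6, 3, 5] [.bad [] 2, .bad [3, 0, 1, 0, 1] 2], .sub [0, 4, 3, 2, 3, 4, 5, 3, 6, 1, 2, 3, 5,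 4, 3, 2, 1, 6, 3, 5, 4, 3, 2, 5, 3, 4] [.bad [] 2, .bad [3, 0, 1, 0, 1] 2]],
  .sub [6, 3, 5, 2, 3, 6, 4, 3, 2, 5, 3, 6] [.sub [] [.bad [] 2, .bad [3, 0, 1, 0, 1] 2], .sub [0] [.bad [] 2, .bad [3, 0, 1, 0, 1] 2], .sub [3] [.bad [] 2, .bad [3, 0, 1, 0, 1] 2], .sub [4, 3, 5, 3, 4] [.bad [] 2, .bad [3, 0, 1, 0, 1] 2], .sub [4, 3, 2, 3, 4, 5, 3, 6, 1, 2, 3, 5, 4, 3, 2, 1, 6, 3, 5, 4, 3, 2, 3, 4] [.bad [] 2, .bad [3, 0, 1, 0, 1] 2], .sub [3, 0] [.bad [] 2, .bad [3, 0, 1, 0, 1] 2], .sub [4, 3, 5, 3, 0, 4] [.bad [] 2, .bad [3, 0, 1, 0, 1] 2], .sub [5, 3, 2, 6, 1, 2, 3, 5, 4, 3, 2, 1, 6, 3, 5, 2, 3, 2, 3, 5, 4, 3, 2, 3, 2] [.bad [] 2, .bad [3, 0, 1, 0, 1] 2], .sub [4, 3, 5, 3, 4, 3] [.bad [] 2,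 .bad [3, 0, 1, 0, 1] 2], .sub [4, 3, 2, 3, 4, 5, 3, 6, 1, 2, 3, 5, 4, 3, 2, 1, 6, 3, 5, 4, 3, 2, 3, 4, 3] [.bad [] 2, .bad [3, 0, 1, 0, 1] 2], .sub [4, 3, 2, 3, 4, 5, 3, 6, 1, 2, 3, 5, 4, 3, 2, 1, 6, 3, 5, 4, 3, 2, 5, 3, 4] [.bad [] 2, .bad [3, 0, 1, 0, 1] 2], .sub [2, 3, 2, 3, 4, 5, 3, 2, 3, 2, 5, 3, 6, 1, 2, 3, 5, 4, 3, 2, 1, 6, 2, 3, 5] [.bad [] 2, .bad [3, 0, 1, 0, 1] 2], .sub [4, 3, 5, 2, 3, 4, 5, 3, 6, 1, 2, 3, 5, 4, 3, 2, 1, 6, 3, 5, 4, 3, 2, 3, 4] [.bad [] 2, .bad [3, 0, 1, 0, 1] 2], .sub [4, 3, 5, 3, 0, 4, 3] [.bad [] 2, .bad [3, 0, 1, 0, 1] 2], .sub [6, 3, 5, 2, 3, 4, 6, 3, 2, 5, 3, 6, 5, 3, 6, 1, 2, 3, 5, 4, 3, 2, 1, 6, 3, 5] [.bad [] 2, .bad [3, 0, 1, 0, 1] 2], .sub [0, 4, 3,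 2, 3, 4, 5, 3, 6, 1, 2, 3, 5, 4, 3, 2, 1, 6, 3, 5, 4, 3, 2, 5, 3, 4] [.bad [] 2, .bad [3, 0, 1, 0, 1] 2]],
  .out 269,
  .out 429,
  .out 280,
  .sub [5, 3, 2, 3, 5, 4, 3, 2, 3, 4] [.sub [] [.bad [] 2, .bad [3, 0, 1, 0, 1] 2], .sub [0] [.bad [] 2, .bad [3, 0, 1, 0, 1] 2], .sub [3] [.bad [] 2, .bad [3, 0, 1, 0, 1] 2], .sub [4, 3, 5, 3, 4] [.bad [] 2, .bad [3, 0, 1, 0, 1] 2], .sub [4, 3, 2, 3, 4, 5, 3, 6, 1, 2, 3, 5, 4, 3, 2, 1, 6, 3, 5, 4, 3, 2, 3, 4] [.bad [] 2, .bad [3, 0, 1, 0, 1] 2], .sub [3, 0] [.bad [] 2, .bad [3, 0, 1, 0, 1] 2], .sub [4, 3, 5, 3, 0, 4] [.bad [] 2, .bad [3, 0, 1, 0, 1] 2], .sub [5, 3, 2, 6, 1, 2, 3, 5, 4, 3, 2, 1, 6, 3, 5, 2, 3, 2, 3, 5, 4, 3, 2, 3, 2] [.bad [] 2,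 .bad [3, 0, 1, 0, 1] 2], .sub [4, 3, 5, 3, 4, 3] [.bad [] 2, .bad [3, 0, 1, 0, 1] 2], .sub [4, 3, 2, 3, 4, 5, 3, 6, 1, 2, 3, 5, 4, 3, 2, 1, 6, 3, 5, 4, 3, 2, 3, 4, 3] [.bad [] 2, .bad [3, 0, 1, 0, 1] 2], .sub [4, 3, 2, 3, 4, 5, 3, 6, 1, 2, 3, 5, 4, 3, 2, 1, 6, 3, 5, 4, 3, 2, 5, 3, 4] [.bad [] 2, .bad [3, 0, 1, 0, 1] 2], .sub [2, 3, 2, 3, 4, 5, 3, 2, 3, 2, 5, 3, 6, 1, 2, 3, 5, 4, 3, 2, 1, 6, 2, 3, 5] [.bad [] 2, .bad [3, 0, 1, 0, 1] 2], .sub [4, 3, 5, 2, 3, 4, 5, 3, 6, 1, 2, 3, 5, 4, 3, 2, 1, 6, 3, 5, 4, 3, 2, 3, 4] [.bad [] 2, .bad [3, 0, 1, 0, 1] 2], .sub [4, 3, 5, 3, 0, 4, 3] [.bad [] 2, .bad [3, 0, 1, 0, 1] 2], .sub [6, 3, 5, 2, 3, 4, 6, 3, 2, 5, 3, 6, 5, 3, 6, 1, 2, 3, 5, 4, 3, 2, 1,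 6, 3, 5] [.bad [] 2, .bad [3, 0, 1, 0, 1] 2], .sub [0, 4, 3, 2, 3, 4, 5, 3, 6, 1, 2, 3, 5, 4, 3, 2, 1, 6, 3, 5, 4, 3, 2, 5, 3, 4] [.bad [] 2, .bad [3, 0, 1, 0, 1] 2]],
  .out 446,
  .out 307,
  .out 722,
  .out 244,
  .out 457,
  .out 445,
  .out 440,
  .sub [2, 3, 2, 3, 5, 4, 3, 2, 3, 2] [.sub [] [.bad [] 2, .bad [3, 0, 1, 0, 1] 2], .sub [0] [.bad [] 2, .bad [3, 0, 1, 0, 1] 2], .sub [3] [.bad [] 2, .bad [3, 0, 1, 0, 1] 2], .sub [4, 3, 5, 3, 4] [.bad [] 2, .bad [3, 0, 1, 0, 1] 2], .sub [4, 3, 2, 3, 4, 5, 3, 6, 1, 2, 3, 5, 4, 3, 2, 1, 6, 3, 5, 4, 3, 2, 3, 4] [.bad [] 2, .bad [3, 0, 1, 0, 1] 2], .sub [3, 0] [.bad [] 2, .bad [3, 0, 1, 0, 1] 2], .sub [4, 3, 5, 3, 0, 4] [.bad [] 2, .bad [3,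 0, 1, 0, 1] 2], .sub [5, 3, 2, 6, 1, 2, 3, 5, 4, 3, 2, 1, 6, 3, 5, 2, 3, 2, 3, 5, 4, 3, 2, 3, 2] [.bad [] 2, .bad [3, 0, 1, 0, 1] 2], .sub [4, 3, 5, 3, 4, 3] [.bad [] 2, .bad [3, 0, 1, 0, 1] 2], .sub [4, 3, 2, 3, 4, 5, 3, 6, 1, 2, 3, 5, 4, 3, 2, 1, 6, 3, 5, 4, 3, 2, 3, 4, 3] [.bad [] 2, .bad [3, 0, 1, 0, 1] 2], .sub [4, 3, 2, 3, 4, 5, 3, 6, 1, 2, 3, 5, 4, 3, 2, 1, 6, 3, 5, 4, 3, 2, 5, 3, 4] [.bad [] 2, .bad [3, 0, 1, 0, 1] 2], .sub [2, 3, 2, 3, 4, 5, 3, 2, 3, 2, 5, 3, 6, 1, 2, 3, 5, 4, 3, 2, 1, 6, 2, 3, 5] [.bad [] 2, .bad [3, 0, 1, 0, 1] 2], .sub [4, 3, 5, 2, 3, 4, 5, 3, 6, 1, 2, 3, 5, 4, 3, 2, 1, 6, 3, 5, 4, 3, 2, 3, 4] [.bad [] 2, .bad [3, 0, 1, 0, 1] 2], .sub [4, 3, 5, 3, 0, 4, 3] [.bad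 [] 2, .bad [3, 0, 1, 0, 1] 2], .sub [6, 3, 5, 2, 3, 4, 6, 3, 2, 5, 3, 6, 5, 3, 6, 1, 2, 3, 5, 4, 3, 2, 1, 6, 3, 5] [.bad [] 2, .bad [3, 0, 1, 0, 1] 2], .sub [0, 4, 3, 2, 3, 4, 5, 3, 6, 1, 2, 3, 5, 4, 3, 2, 1, 6, 3, 5, 4, 3, 2, 5, 3, 4] [.bad [] 2, .bad [3, 0, 1, 0, 1] 2]],
  .out 472,
  .out 503,
  .out 507,
  .out 425,
  .out 741,
  .out 1179,
  .out 447,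
  .out 746,
  .out 773,
  .out 777,
  .out 846,
  .out 742,
  .out 1215,
  .out 1934,
  .out 1797,
  .out 1899,
  .out 1683]

/-- The branches. -/
def kids1 : List Branch := kids1Part0

end CfsgLib.Spor.HeInvCent
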