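/-
A part of the search.
-/
import Cfsg.Agent.Lib.Spor.HeInvCent.Data
import Cfsg.Agent.Lib.Spor.HeInvCent.Chain
import Cfsg.Agent.Lib.Spor.HeInvCent.Kids2
import Cfsg.Agent.Lib.Spor.Held.ActH.Data

set_option autoImplicit false
set_option maxRecDepth 100000
set_option maxHeartbeats 0

namespace CfsgLib.Spor.HeInvCent

open CfsgLib.Spor.TC CfsgLib.Spor.ActCert

theorem search2_ok : searchOK CfsgLib.Spor.Held.ActH.act zw fixPts allowed (lev.drop 2) (modes.drop 2) [0, 78]
    [0, 244] [2, 5, 3, 2] kids2 = true := by decide +kernel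

end CfsgLib.Spor.HeInvCent
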