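/-
Branches of the search.
-/
import Cfsg.Agent.Lib.Spor.ActCert.Search

set_option autoImplicit false
set_option maxRecDepth 100000
set_option maxHeartbeats 0

namespace CfsgLib.Spor.HeInvCent

open CfsgLib.Spor.TC CfsgLib.Spor.ActCert

/-- Branches. -/
def kids3Part0 : List Branch := [
  .out 0,
  .out 14,
  .out 40,
  .out 80,
  .out 84,
  .out 25,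
  .sub [3, 2, 3, 1, 2, 3, 6, 3, 2, 1, 3, 2, 3, 5, 4, 2, 3, 2, 3, 1, 2, 3, 6, 3, 2, 1, 5, 2] [.sub [] [.bad [] 2, .bad [3, 0, 1, 0, 1] 2], .sub [0] [.bad [] 2, .bad [3, 0, 1, 0, 1] 2], .sub [3] [.bad [] 2, .bad [3, 0, 1, 0, 1] 2], .sub [4, 3, 5, 3, 4] [.bad [] 2, .bad [3, 0, 1, 0, 1] 2], .sub [4, 3, 2, 3, 4, 5, 3, 6, 1, 2, 3, 5, 4, 3, 2, 1, 6, 3, 5, 4, 3, 2, 3, 4] [.bad [] 2, .bad [3, 0, 1, 0, 1] 2], .sub [3, 0] [.bad [] 2, .bad [3, 0, 1, 0, 1] 2], .sub [4, 3, 5, 3, 0, 4] [.bad [] 2, .bad [3, 0, 1, 0, 1] 2], .sub [5, 3, 2, 6, 1, 2, 3, 5, 4, 3, 2, 1, 6, 3, 5, 2, 3, 2, 3, 5, 4, 3, 2, 3, 2] [.bad [] 2, .bad [3, 0, 1, 0, 1] 2], .sub [4, 3, 5, 3, 4, 3] [.bad [] 2, .bad [3, 0, 1, 0, 1] 2],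 .sub [4, 3, 2, 3, 4, 5, 3, 6, 1, 2, 3, 5, 4, 3, 2, 1, 6, 3, 5, 4, 3, 2, 3, 4, 3] [.bad [] 2, .bad [3, 0, 1, 0, 1] 2], .sub [4, 3, 2, 3, 4, 5, 3, 6, 1, 2, 3, 5, 4, 3, 2, 1, 6, 3, 5, 4, 3, 2, 5, 3, 4] [.bad [] 2, .bad [3, 0, 1, 0, 1] 2], .sub [2, 3, 2, 3, 4, 5, 3, 2, 3, 2, 5, 3, 6, 1, 2, 3, 5, 4, 3, 2, 1, 6, 2, 3, 5] [.bad [] 2, .bad [3, 0, 1, 0, 1] 2], .sub [4, 3, 5, 2, 3, 4, 5, 3, 6, 1, 2, 3, 5, 4, 3, 2, 1, 6, 3, 5, 4, 3, 2, 3, 4] [.bad [] 2, .bad [3, 0, 1, 0, 1] 2], .sub [4, 3, 5, 3, 0, 4, 3] [.bad [] 2, .bad [3, 0, 1, 0, 1] 2], .sub [6, 3, 5, 2, 3, 4, 6, 3, 2, 5, 3, 6, 5, 3, 6, 1, 2, 3, 5, 4, 3, 2, 1, 6, 3, 5] [.bad [] 2, .bad [3, 0, 1, 0, 1] 2], .sub [0, 4, 3, 2, 3, 4, 5, 3, 6,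 1, 2, 3, 5, 4, 3, 2, 1, 6, 3, 5, 4, 3, 2, 5, 3, 4] [.bad [] 2, .bad [3, 0, 1, 0, 1] 2]],
  .sub [4, 2, 3, 5, 3, 2, 3, 4, 2, 3, 5, 2, 3, 6, 1, 2, 3, 5, 4, 0, 3, 2, 1, 6, 3, 2, 3, 2] [.sub [] [.bad [] 2, .bad [3, 0, 1, 0, 1] 2], .sub [0] [.bad [] 2, .bad [3, 0, 1, 0, 1] 2], .sub [3] [.bad [] 2, .bad [3, 0, 1, 0, 1] 2], .sub [4, 3, 5, 3, 4] [.bad [] 2, .bad [3, 0, 1, 0, 1] 2], .sub [4, 3, 2, 3, 4, 5, 3, 6, 1, 2, 3, 5, 4, 3, 2, 1, 6, 3, 5, 4, 3, 2, 3, 4] [.bad [] 2, .bad [3, 0, 1, 0, 1] 2], .sub [3, 0] [.bad [] 2, .bad [3, 0, 1, 0, 1] 2], .sub [4, 3, 5, 3, 0, 4] [.bad [] 2, .bad [3, 0, 1, 0, 1] 2], .sub [5, 3, 2, 6, 1, 2, 3, 5, 4, 3, 2, 1, 6, 3, 5, 2, 3, 2, 3, 5, 4, 3, 2, 3, 2] [.bad []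 2, .bad [3, 0, 1, 0, 1] 2], .sub [4, 3, 5, 3, 4, 3] [.bad [] 2, .bad [3, 0, 1, 0, 1] 2], .sub [4, 3, 2, 3, 4, 5, 3, 6, 1, 2, 3, 5, 4, 3, 2, 1, 6, 3, 5, 4, 3, 2, 3, 4, 3] [.bad [] 2, .bad [3, 0, 1, 0, 1] 2], .sub [4, 3, 2, 3, 4, 5, 3, 6, 1, 2, 3, 5, 4, 3, 2, 1, 6, 3, 5, 4, 3, 2, 5, 3, 4] [.bad [] 2, .bad [3, 0, 1, 0, 1] 2], .sub [2, 3, 2, 3, 4, 5, 3, 2, 3, 2, 5, 3, 6, 1, 2, 3, 5, 4, 3, 2, 1, 6, 2, 3, 5] [.bad [] 2, .bad [3, 0, 1, 0, 1] 2], .sub [4, 3, 5, 2, 3, 4, 5, 3, 6, 1, 2, 3, 5, 4, 3, 2, 1, 6, 3, 5, 4, 3, 2, 3, 4] [.bad [] 2, .bad [3, 0, 1, 0, 1] 2], .sub [4, 3, 5, 3, 0, 4, 3] [.bad [] 2, .bad [3, 0, 1, 0, 1] 2], .sub [6, 3, 5, 2, 3, 4, 6, 3, 2, 5, 3, 6, 5, 3, 6, 1, 2, 3, 5, 4,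 3, 2, 1, 6, 3, 5] [.bad [] 2, .bad [3, 0, 1, 0, 1] 2], .sub [0, 4, 3, 2, 3, 4, 5, 3, 6, 1, 2, 3, 5, 4, 3, 2, 1, 6, 3, 5, 4, 3, 2, 5, 3, 4] [.bad [] 2, .bad [3, 0, 1, 0, 1] 2]],
  .out 163,
  .out 244,
  .out 79,
  .out 142,
  .out 88,
  .out 93,
  .out 429,
  .out 52,
  .out 149,
  .out 1214,
  .sub [4, 2, 3, 5, 3, 2, 4, 2, 3, 5, 2, 3, 6, 4, 1, 2, 3, 0, 4, 5, 3, 2, 1, 6, 3, 2, 3, 2] [.sub [] [.bad [] 2, .bad [3, 0, 1, 0, 1] 2], .sub [0] [.bad [] 2, .bad [3, 0, 1, 0, 1] 2], .sub [3] [.bad [] 2, .bad [3, 0, 1, 0, 1] 2], .sub [4, 3, 5, 3, 4] [.bad [] 2, .bad [3, 0, 1, 0, 1] 2], .sub [4, 3, 2, 3, 4, 5, 3, 6, 1, 2, 3, 5, 4, 3, 2, 1, 6, 3, 5, 4, 3, 2, 3, 4] [.bad [] 2, .bad [3, 0, 1, 0,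 1] 2], .sub [3, 0] [.bad [] 2, .bad [3, 0, 1, 0, 1] 2], .sub [4, 3, 5, 3, 0, 4] [.bad [] 2, .bad [3, 0, 1, 0, 1] 2], .sub [5, 3, 2, 6, 1, 2, 3, 5, 4, 3, 2, 1, 6, 3, 5, 2, 3, 2, 3, 5, 4, 3, 2, 3, 2] [.bad [] 2, .bad [3, 0, 1, 0, 1] 2], .sub [4, 3, 5, 3, 4, 3] [.bad [] 2, .bad [3, 0, 1, 0, 1] 2], .sub [4, 3, 2, 3, 4, 5, 3, 6, 1, 2, 3, 5, 4, 3, 2, 1, 6, 3, 5, 4, 3, 2, 3, 4, 3] [.bad [] 2, .bad [3, 0, 1, 0, 1] 2], .sub [4, 3, 2, 3, 4, 5, 3, 6, 1, 2, 3, 5, 4, 3, 2, 1, 6, 3, 5, 4, 3, 2, 5, 3, 4] [.bad [] 2, .bad [3, 0, 1, 0, 1] 2], .sub [2, 3, 2, 3, 4, 5, 3, 2, 3, 2, 5, 3, 6, 1, 2, 3, 5, 4, 3, 2, 1, 6, 2, 3, 5] [.bad [] 2, .bad [3, 0, 1, 0, 1] 2], .sub [4, 3, 5, 2, 3, 4, 5, 3, 6, 1, 2, 3,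 5, 4, 3, 2, 1, 6, 3, 5, 4, 3, 2, 3, 4] [.bad [] 2, .bad [3, 0, 1, 0, 1] 2], .sub [4, 3, 5, 3, 0, 4, 3] [.bad [] 2, .bad [3, 0, 1, 0, 1] 2], .sub [6, 3, 5, 2, 3, 4, 6, 3, 2, 5, 3, 6, 5, 3, 6, 1, 2, 3, 5, 4, 3, 2, 1, 6, 3, 5] [.bad [] 2, .bad [3, 0, 1, 0, 1] 2], .sub [0, 4, 3, 2, 3, 4, 5, 3, 6, 1, 2, 3, 5, 4, 3, 2, 1, 6, 3, 5, 4, 3, 2, 5, 3, 4] [.bad [] 2, .bad [3, 0, 1, 0, 1] 2]],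
  .out 1517,
  .out 78,
  .out 1181,
  .out 275,
  .out 440,
  .out 96,
  .sub [2, 3, 1, 2, 3, 6, 3, 2, 1, 3, 2, 3, 5, 4, 2, 3, 2, 3, 1, 2, 3, 6, 3, 2, 1, 5, 2] [.sub [] [.bad [] 2, .bad [3, 0, 1, 0, 1] 2], .sub [0] [.bad [] 2, .bad [3, 0, 1, 0, 1] 2], .sub [3] [.bad [] 2, .bad [3, 0, 1, 0, 1] 2], .sub [4, 3, 5, 3, 4] [.bad [] 2, .bad [3, 0, 1, 0, 1] 2], .sub [4, 3, 2, 3, 4, 5, 3, 6, 1, 2, 3, 5, 4, 3, 2, 1, 6, 3, 5, 4, 3, 2, 3, 4] [.bad [] 2, .bad [3, 0, 1, 0, 1] 2], .sub [3, 0] [.bad [] 2, .bad [3, 0, 1, 0, 1] 2], .sub [4, 3, 5, 3, 0, 4] [.bad [] 2, .bad [3, 0, 1, 0, 1] 2], .sub [5, 3, 2, 6, 1, 2, 3, 5, 4, 3, 2, 1, 6, 3, 5, 2, 3, 2, 3, 5, 4, 3, 2, 3, 2] [.bad [] 2, .bad [3, 0, 1,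 0, 1] 2], .sub [4, 3, 5, 3, 4, 3] [.bad [] 2, .bad [3, 0, 1, 0, 1] 2], .sub [4, 3, 2, 3, 4, 5, 3, 6, 1, 2, 3, 5, 4, 3, 2, 1, 6, 3, 5, 4, 3, 2, 3, 4, 3] [.bad [] 2, .bad [3, 0, 1, 0, 1] 2], .sub [4, 3, 2, 3, 4, 5, 3, 6, 1, 2, 3, 5, 4, 3, 2, 1, 6, 3, 5, 4, 3, 2, 5, 3, 4] [.bad [] 2, .bad [3, 0, 1, 0, 1] 2], .sub [2, 3, 2, 3, 4, 5, 3, 2, 3, 2, 5, 3, 6, 1, 2, 3, 5, 4, 3, 2, 1, 6, 2, 3, 5] [.bad [] 2, .bad [3, 0, 1, 0, 1] 2], .sub [4, 3, 5, 2, 3, 4, 5, 3, 6, 1, 2, 3, 5, 4, 3, 2, 1, 6, 3, 5, 4, 3, 2, 3, 4] [.bad [] 2, .bad [3, 0, 1, 0, 1] 2], .sub [4, 3, 5, 3, 0, 4, 3] [.bad [] 2, .bad [3, 0, 1, 0, 1] 2], .sub [6, 3, 5, 2, 3, 4, 6, 3, 2, 5, 3, 6, 5, 3, 6, 1, 2, 3, 5, 4, 3, 2, 1, 6, 3, 5]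 [.bad [] 2, .bad [3, 0, 1, 0, 1] 2], .sub [0, 4, 3, 2, 3, 4, 5, 3, 6, 1, 2, 3, 5, 4, 3, 2, 1, 6, 3, 5, 4, 3, 2, 5, 3, 4] [.bad [] 2, .bad [3, 0, 1, 0, 1] 2]],
  .sub [3, 4, 2, 3, 5, 3, 2, 4, 2, 3, 5, 2, 3, 6, 1, 2, 3, 5, 4, 0, 3, 2, 1, 6, 3, 2, 3, 2] [.sub [] [.bad [] 2, .bad [3, 0, 1, 0, 1] 2], .sub [0] [.bad [] 2, .bad [3, 0, 1, 0, 1] 2], .sub [3] [.bad [] 2, .bad [3, 0, 1, 0, 1] 2], .sub [4, 3, 5, 3, 4] [.bad [] 2, .bad [3, 0, 1, 0, 1] 2], .sub [4, 3, 2, 3, 4, 5, 3, 6, 1, 2, 3, 5, 4, 3, 2, 1, 6, 3, 5, 4, 3, 2, 3, 4] [.bad [] 2, .bad [3, 0, 1, 0, 1] 2], .sub [3, 0] [.bad [] 2, .bad [3, 0, 1, 0, 1] 2], .sub [4, 3, 5, 3, 0, 4] [.bad [] 2, .bad [3, 0, 1, 0, 1] 2], .sub [5, 3, 2, 6,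 1, 2, 3, 5, 4, 3, 2, 1, 6, 3, 5, 2, 3, 2, 3, 5, 4, 3, 2, 3, 2] [.bad [] 2, .bad [3, 0, 1, 0, 1] 2], .sub [4, 3, 5, 3, 4, 3] [.bad [] 2, .bad [3, 0, 1, 0, 1] 2], .sub [4, 3, 2, 3, 4, 5, 3, 6, 1, 2, 3, 5, 4, 3, 2, 1, 6, 3, 5, 4, 3, 2, 3, 4, 3] [.bad [] 2, .bad [3, 0, 1, 0, 1] 2], .sub [4, 3, 2, 3, 4, 5, 3, 6, 1, 2, 3, 5, 4, 3, 2, 1, 6, 3, 5, 4, 3, 2, 5, 3, 4] [.bad [] 2, .bad [3, 0, 1, 0, 1] 2], .sub [2, 3, 2, 3, 4, 5, 3, 2, 3, 2, 5, 3, 6, 1, 2, 3, 5, 4, 3, 2, 1, 6, 2, 3, 5] [.bad [] 2, .bad [3, 0, 1, 0, 1] 2], .sub [4, 3, 5, 2, 3, 4, 5, 3, 6, 1, 2, 3, 5, 4, 3, 2, 1, 6, 3, 5, 4, 3, 2, 3, 4] [.bad [] 2, .bad [3, 0, 1, 0, 1] 2], .sub [4, 3, 5, 3, 0, 4, 3] [.bad [] 2, .bad [3, 0, 1, 0,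 1] 2], .sub [6, 3, 5, 2, 3, 4, 6, 3, 2, 5, 3, 6, 5, 3, 6, 1, 2, 3, 5, 4, 3, 2, 1, 6, 3, 5] [.bad [] 2, .bad [3, 0, 1, 0, 1] 2], .sub [0, 4, 3, 2, 3, 4, 5, 3, 6, 1, 2, 3, 5, 4, 3, 2, 1, 6, 3, 5, 4, 3, 2, 5, 3, 4] [.bad [] 2, .bad [3, 0, 1, 0, 1] 2]],
  .out 1319,
  .out 1141,
  .out 1630,
  .out 158,
  .out 451,
  .out 436,
  .sub [4, 2, 3, 5, 3, 2, 3, 4, 2, 3, 5, 2, 3, 6, 1, 2, 3, 5, 4, 1, 0, 3, 2, 1, 6, 3, 2, 3, 2] [.sub [] [.bad [] 2, .bad [3, 0, 1, 0, 1] 2], .sub [0] [.bad [] 2, .bad [3, 0, 1, 0, 1] 2], .sub [3] [.bad [] 2, .bad [3, 0, 1, 0, 1] 2], .sub [4, 3, 5, 3, 4] [.bad [] 2, .bad [3, 0, 1, 0, 1] 2], .sub [4, 3, 2, 3, 4, 5, 3, 6, 1, 2, 3, 5, 4, 3, 2, 1, 6, 3, 5, 4, 3, 2, 3,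 4] [.bad [] 2, .bad [3, 0, 1, 0, 1] 2], .sub [3, 0] [.bad [] 2, .bad [3, 0, 1, 0, 1] 2], .sub [4, 3, 5, 3, 0, 4] [.bad [] 2, .bad [3, 0, 1, 0, 1] 2], .sub [5, 3, 2, 6, 1, 2, 3, 5, 4, 3, 2, 1, 6, 3, 5, 2, 3, 2, 3, 5, 4, 3, 2, 3, 2] [.bad [] 2, .bad [3, 0, 1, 0, 1] 2], .sub [4, 3, 5, 3, 4, 3] [.bad [] 2, .bad [3, 0, 1, 0, 1] 2], .sub [4, 3, 2, 3, 4, 5, 3, 6, 1, 2, 3, 5, 4, 3, 2, 1, 6, 3, 5, 4, 3, 2, 3, 4, 3] [.bad [] 2, .bad [3, 0, 1, 0, 1] 2], .sub [4, 3, 2, 3, 4, 5, 3, 6, 1, 2, 3, 5, 4, 3, 2, 1, 6, 3, 5, 4, 3, 2, 5, 3, 4] [.bad [] 2, .bad [3, 0, 1, 0, 1] 2], .sub [2, 3, 2, 3, 4, 5, 3, 2, 3, 2, 5, 3, 6, 1, 2, 3, 5, 4, 3, 2, 1, 6, 2, 3, 5] [.bad [] 2, .bad [3, 0, 1, 0, 1] 2], .sub [4,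 3, 5, 2, 3, 4, 5, 3, 6, 1, 2, 3, 5, 4, 3, 2, 1, 6, 3, 5, 4, 3, 2, 3, 4] [.bad [] 2, .bad [3, 0, 1, 0, 1] 2], .sub [4, 3, 5, 3, 0, 4, 3] [.bad [] 2, .bad [3, 0, 1, 0, 1] 2], .sub [6, 3, 5, 2, 3, 4, 6, 3, 2, 5, 3, 6, 5, 3, 6, 1, 2, 3, 5, 4, 3, 2, 1, 6, 3, 5] [.bad [] 2, .bad [3, 0, 1, 0, 1] 2], .sub [0, 4, 3, 2, 3, 4, 5, 3, 6, 1, 2, 3, 5, 4, 3, 2, 1, 6, 3, 5, 4, 3, 2, 5, 3, 4] [.bad [] 2, .bad [3, 0, 1, 0, 1] 2]],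
  .out 1633,
  .out 268,
  .out 1178,
  .out 847,
  .out 1362,
  .sub [4, 2, 3, 5, 3, 2, 4, 2, 3, 5, 2, 3, 6, 1, 2, 3, 5, 4, 0, 3, 2, 1, 6, 5, 3, 2, 3, 2] [.sub [] [.bad [] 2, .bad [3, 0, 1, 0, 1] 2], .sub [0] [.bad [] 2, .bad [3, 0, 1, 0, 1] 2], .sub [3] [.bad [] 2, .bad [3, 0, 1, 0, 1] 2], .sub [4, 3, 5, 3, 4] [.bad [] 2, .bad [3, 0, 1, 0, 1] 2], .sub [4, 3, 2, 3, 4, 5, 3, 6, 1, 2, 3, 5, 4, 3, 2, 1, 6, 3, 5, 4, 3, 2, 3, 4] [.bad [] 2, .bad [3, 0, 1, 0, 1] 2], .sub [3, 0] [.bad [] 2, .bad [3, 0, 1, 0, 1] 2], .sub [4, 3, 5, 3, 0, 4] [.bad [] 2, .bad [3, 0, 1, 0, 1] 2], .sub [5, 3, 2, 6, 1, 2, 3, 5, 4, 3, 2, 1, 6, 3, 5, 2, 3, 2, 3, 5, 4, 3, 2, 3, 2] [.bad [] 2, .bad [3, 0, 1, 0, 1]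 2], .sub [4, 3, 5, 3, 4, 3] [.bad [] 2, .bad [3, 0, 1, 0, 1] 2], .sub [4, 3, 2, 3, 4, 5, 3, 6, 1, 2, 3, 5, 4, 3, 2, 1, 6, 3, 5, 4, 3, 2, 3, 4, 3] [.bad [] 2, .bad [3, 0, 1, 0, 1] 2], .sub [4, 3, 2, 3, 4, 5, 3, 6, 1, 2, 3, 5, 4, 3, 2, 1, 6, 3, 5, 4, 3, 2, 5, 3, 4] [.bad [] 2, .bad [3, 0, 1, 0, 1] 2], .sub [2, 3, 2, 3, 4, 5, 3, 2, 3, 2, 5, 3, 6, 1, 2, 3, 5, 4, 3, 2, 1, 6, 2, 3, 5] [.bad [] 2, .bad [3, 0, 1, 0, 1] 2], .sub [4, 3, 5, 2, 3, 4, 5, 3, 6, 1, 2, 3, 5, 4, 3, 2, 1, 6, 3, 5, 4, 3, 2, 3, 4] [.bad [] 2, .bad [3, 0, 1, 0, 1] 2], .sub [4, 3, 5, 3, 0, 4, 3] [.bad [] 2, .bad [3, 0, 1, 0, 1] 2], .sub [6, 3, 5, 2, 3, 4, 6, 3, 2, 5, 3, 6, 5, 3, 6, 1, 2, 3, 5, 4, 3, 2, 1, 6, 3, 5] [.bad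 [] 2, .bad [3, 0, 1, 0, 1] 2], .sub [0, 4, 3, 2, 3, 4, 5, 3, 6, 1, 2, 3, 5, 4, 3, 2, 1, 6, 3, 5, 4, 3, 2, 5, 3, 4] [.bad [] 2, .bad [3, 0, 1, 0, 1] 2]],
  .sub [4, 2, 3, 5, 3, 2, 4, 2, 3, 5, 2, 3, 6, 1, 2, 3, 5, 4, 0, 3, 2, 1, 6, 3, 2, 3, 2] [.sub [] [.bad [] 2, .bad [3, 0, 1, 0, 1] 2], .sub [0] [.bad [] 2, .bad [3, 0, 1, 0, 1] 2], .sub [3] [.bad [] 2, .bad [3, 0, 1, 0, 1] 2], .sub [4, 3, 5, 3, 4] [.bad [] 2, .bad [3, 0, 1, 0, 1] 2], .sub [4, 3, 2, 3, 4, 5, 3, 6, 1, 2, 3, 5, 4, 3, 2, 1, 6, 3, 5, 4, 3, 2, 3, 4] [.bad [] 2, .bad [3, 0, 1, 0, 1] 2], .sub [3, 0] [.bad [] 2, .bad [3, 0, 1, 0, 1] 2], .sub [4, 3, 5, 3, 0, 4] [.bad [] 2, .bad [3, 0, 1, 0, 1] 2], .sub [5, 3, 2, 6, 1, 2, 3,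 5, 4, 3, 2, 1, 6, 3, 5, 2, 3, 2, 3, 5, 4, 3, 2, 3, 2] [.bad [] 2, .bad [3, 0, 1, 0, 1] 2], .sub [4, 3, 5, 3, 4, 3] [.bad [] 2, .bad [3, 0, 1, 0, 1] 2], .sub [4, 3, 2, 3, 4, 5, 3, 6, 1, 2, 3, 5, 4, 3, 2, 1, 6, 3, 5, 4, 3, 2, 3, 4, 3] [.bad [] 2, .bad [3, 0, 1, 0, 1] 2], .sub [4, 3, 2, 3, 4, 5, 3, 6, 1, 2, 3, 5, 4, 3, 2, 1, 6, 3, 5, 4, 3, 2, 5, 3, 4] [.bad [] 2, .bad [3, 0, 1, 0, 1] 2], .sub [2, 3, 2, 3, 4, 5, 3, 2, 3, 2, 5, 3, 6, 1, 2, 3, 5, 4, 3, 2, 1, 6, 2, 3, 5] [.bad [] 2, .bad [3, 0, 1, 0, 1] 2], .sub [4, 3, 5, 2, 3, 4, 5, 3, 6, 1, 2, 3, 5, 4, 3, 2, 1, 6, 3, 5, 4, 3, 2, 3, 4] [.bad [] 2, .bad [3, 0, 1, 0, 1] 2], .sub [4, 3, 5, 3, 0, 4, 3] [.bad [] 2, .bad [3, 0, 1, 0, 1] 2], .sub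 [6, 3, 5, 2, 3, 4, 6, 3, 2, 5, 3, 6, 5, 3, 6, 1, 2, 3, 5, 4, 3, 2, 1, 6, 3, 5] [.bad [] 2, .bad [3, 0, 1, 0, 1] 2], .sub [0, 4, 3, 2, 3, 4, 5, 3, 6, 1, 2, 3, 5, 4, 3, 2, 1, 6, 3, 5, 4, 3, 2, 5, 3, 4] [.bad [] 2, .bad [3, 0, 1, 0, 1] 2]],
  .out 1681]

/-- The branches. -/
def kids3 : List Branch := kids3Part0

end CfsgLib.Spor.HeInvCent
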