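/-
Branches of the search.
-/
import Cfsg.Agent.Lib.Spor.ActCert.Search

set_option autoImplicit false
set_option maxRecDepth 100000
set_option maxHeartbeats 0

namespace CfsgLib.Spor.HeInvCent

open CfsgLib.Spor.TC CfsgLib.Spor.ActCert

/-- Branches. -/
def kids4Part0 : List Branch := [
  .out 0,
  .out 241,
  .sub [4, 3, 2, 3, 4, 6, 3, 1, 2, 3, 6, 5, 3, 2, 1, 2, 3, 5, 6, 3, 2, 1, 3, 6] [.sub [] [.bad [] 2, .bad [3, 0, 1, 0, 1] 2], .sub [0] [.bad [] 2, .bad [3, 0, 1, 0, 1] 2], .sub [3] [.bad [] 2, .bad [3, 0, 1, 0, 1] 2], .sub [4, 3, 5, 3, 4] [.bad [] 2, .bad [3, 0, 1, 0, 1] 2], .sub [4, 3, 2, 3, 4, 5, 3, 6, 1, 2, 3, 5, 4, 3, 2, 1, 6, 3, 5, 4, 3, 2, 3, 4] [.bad [] 2, .bad [3, 0, 1, 0,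 1] 2], .sub [3, 0] [.bad [] 2, .bad [3, 0, 1, 0, 1] 2], .sub [4, 3, 5, 3, 0, 4] [.bad [] 2, .bad [3, 0, 1, 0, 1] 2], .sub [5, 3, 2, 6, 1, 2, 3, 5, 4, 3, 2, 1, 6, 3, 5, 2, 3, 2, 3, 5, 4, 3, 2, 3, 2] [.bad [] 2, .bad [3, 0, 1, 0, 1] 2], .sub [4, 3, 5, 3, 4, 3] [.bad [] 2, .bad [3, 0, 1, 0, 1] 2], .sub [4, 3, 2, 3, 4, 5, 3, 6, 1, 2, 3, 5, 4, 3, 2, 1, 6, 3, 5, 4, 3, 2, 3, 4, 3] [.bad [] 2, .bad [3, 0, 1, 0, 1] 2], .sub [4, 3, 2, 3, 4, 5, 3, 6, 1, 2, 3, 5, 4, 3, 2, 1, 6, 3, 5, 4, 3, 2, 5, 3, 4] [.bad [] 2, .bad [3, 0, 1, 0, 1] 2], .sub [2, 3, 2, 3, 4, 5, 3, 2, 3, 2, 5, 3, 6, 1, 2, 3, 5, 4, 3, 2, 1, 6, 2, 3, 5] [.bad [] 2, .bad [3, 0, 1, 0, 1] 2], .sub [4, 3, 5, 2, 3, 4, 5, 3, 6, 1, 2, 3, 5,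 4, 3, 2, 1, 6, 3, 5, 4, 3, 2, 3, 4] [.bad [] 2, .bad [3, 0, 1, 0, 1] 2], .sub [4, 3, 5, 3, 0, 4, 3] [.bad [] 2, .bad [3, 0, 1, 0, 1] 2], .sub [6, 3, 5, 2, 3, 4, 6, 3, 2, 5, 3, 6, 5, 3, 6, 1, 2, 3, 5, 4, 3, 2, 1, 6, 3, 5] [.bad [] 2, .bad [3, 0, 1, 0, 1] 2], .sub [0, 4, 3, 2, 3, 4, 5, 3, 6, 1, 2, 3, 5, 4, 3, 2, 1, 6, 3, 5, 4, 3, 2, 5, 3, 4] [.bad [] 2, .bad [3, 0, 1, 0, 1] 2]],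
  .sub [6, 2, 3, 2, 3, 6, 2, 3, 2, 3, 2, 6, 3, 2] [.sub [] [.bad [] 2, .bad [3, 0, 1, 0, 1] 2], .sub [0] [.bad [] 2, .bad [3, 0, 1, 0, 1] 2], .sub [3] [.bad [] 2, .bad [3, 0, 1, 0, 1] 2], .sub [4, 3, 5, 3, 4] [.bad [] 2, .bad [3, 0, 1, 0, 1] 2], .sub [4, 3, 2, 3, 4, 5, 3, 6, 1, 2, 3, 5, 4, 3, 2, 1, 6, 3, 5, 4, 3, 2, 3, 4] [.bad [] 2, .bad [3, 0, 1, 0, 1] 2], .sub [3, 0] [.bad [] 2, .bad [3, 0, 1, 0, 1] 2], .sub [4, 3, 5, 3, 0, 4] [.bad [] 2, .bad [3, 0, 1, 0, 1] 2], .sub [5, 3, 2, 6, 1, 2, 3, 5, 4, 3, 2, 1, 6, 3, 5, 2, 3, 2, 3, 5, 4, 3, 2, 3, 2] [.bad [] 2, .bad [3, 0, 1, 0, 1] 2], .sub [4, 3, 5, 3, 4, 3] [.bad [] 2, .bad [3, 0, 1, 0, 1] 2], .sub [4, 3, 2, 3, 4, 5, 3, 6, 1, 2, 3, 5, 4,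 3, 2, 1, 6, 3, 5, 4, 3, 2, 3, 4, 3] [.bad [] 2, .bad [3, 0, 1, 0, 1] 2], .sub [4, 3, 2, 3, 4, 5, 3, 6, 1, 2, 3, 5, 4, 3, 2, 1, 6, 3, 5, 4, 3, 2, 5, 3, 4] [.bad [] 2, .bad [3, 0, 1, 0, 1] 2], .sub [2, 3, 2, 3, 4, 5, 3, 2, 3, 2, 5, 3, 6, 1, 2, 3, 5, 4, 3, 2, 1, 6, 2, 3, 5] [.bad [] 2, .bad [3, 0, 1, 0, 1] 2], .sub [4, 3, 5, 2, 3, 4, 5, 3, 6, 1, 2, 3, 5, 4, 3, 2, 1, 6, 3, 5, 4, 3, 2, 3, 4] [.bad [] 2, .bad [3, 0, 1, 0, 1] 2], .sub [4, 3, 5, 3, 0, 4, 3] [.bad [] 2, .bad [3, 0, 1, 0, 1] 2], .sub [6, 3, 5, 2, 3, 4, 6, 3, 2, 5, 3, 6, 5, 3, 6, 1, 2, 3, 5, 4, 3, 2, 1, 6, 3, 5] [.bad [] 2, .bad [3, 0, 1, 0, 1] 2], .sub [0, 4, 3, 2, 3, 4, 5, 3, 6, 1, 2, 3, 5, 4, 3, 2, 1, 6, 3, 5, 4, 3, 2, 5, 3,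 4] [.bad [] 2, .bad [3, 0, 1, 0, 1] 2]],
  .out 239,
  .out 22,
  .sub [4, 3, 2, 3, 4, 6, 3, 0, 1, 2, 3, 6, 5, 3, 2, 1, 2, 3, 5, 6, 3, 2, 1, 3, 6] [.sub [] [.bad [] 2, .bad [3, 0, 1, 0, 1] 2], .sub [0] [.bad [] 2, .bad [3, 0, 1, 0, 1] 2], .sub [3] [.bad [] 2, .bad [3, 0, 1, 0, 1] 2], .sub [4, 3, 5, 3, 4] [.bad [] 2, .bad [3, 0, 1, 0, 1] 2], .sub [4, 3, 2, 3, 4, 5, 3, 6, 1, 2, 3, 5, 4, 3, 2, 1, 6, 3, 5, 4, 3, 2, 3, 4] [.bad [] 2, .bad [3, 0, 1, 0, 1] 2], .sub [3, 0] [.bad [] 2, .bad [3, 0, 1, 0, 1] 2], .sub [4, 3, 5, 3, 0, 4] [.bad [] 2, .bad [3, 0, 1, 0, 1] 2], .sub [5, 3, 2, 6, 1, 2, 3, 5, 4, 3, 2, 1, 6, 3, 5, 2, 3, 2, 3, 5, 4, 3, 2, 3, 2] [.bad [] 2, .bad [3, 0, 1, 0, 1] 2], .sub [4,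 3, 5, 3, 4, 3] [.bad [] 2, .bad [3, 0, 1, 0, 1] 2], .sub [4, 3, 2, 3, 4, 5, 3, 6, 1, 2, 3, 5, 4, 3, 2, 1, 6, 3, 5, 4, 3, 2, 3, 4, 3] [.bad [] 2, .bad [3, 0, 1, 0, 1] 2], .sub [4, 3, 2, 3, 4, 5, 3, 6, 1, 2, 3, 5, 4, 3, 2, 1, 6, 3, 5, 4, 3, 2, 5, 3, 4] [.bad [] 2, .bad [3, 0, 1, 0, 1] 2], .sub [2, 3, 2, 3, 4, 5, 3, 2, 3, 2, 5, 3, 6, 1, 2, 3, 5, 4, 3, 2, 1, 6, 2, 3, 5] [.bad [] 2, .bad [3, 0, 1, 0, 1] 2], .sub [4, 3, 5, 2, 3, 4, 5, 3, 6, 1, 2, 3, 5, 4, 3, 2, 1, 6, 3, 5, 4, 3, 2, 3, 4] [.bad [] 2, .bad [3, 0, 1, 0, 1] 2], .sub [4, 3, 5, 3, 0, 4, 3] [.bad [] 2, .bad [3, 0, 1, 0, 1] 2], .sub [6, 3, 5, 2, 3, 4, 6, 3, 2, 5, 3, 6, 5, 3, 6, 1, 2, 3, 5, 4, 3, 2, 1, 6, 3, 5] [.bad [] 2, .bad [3,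 0, 1, 0, 1] 2], .sub [0, 4, 3, 2, 3, 4, 5, 3, 6, 1, 2, 3, 5, 4, 3, 2, 1, 6, 3, 5, 4, 3, 2, 5, 3, 4] [.bad [] 2, .bad [3, 0, 1, 0, 1] 2]],
  .sub [4, 3, 2, 3, 4] [.sub [] [.bad [] 2, .bad [3, 0, 1, 0, 1] 2], .sub [0] [.bad [] 2, .bad [3, 0, 1, 0, 1] 2], .sub [3] [.bad [] 2, .bad [3, 0, 1, 0, 1] 2], .sub [4, 3, 5, 3, 4] [.bad [] 2, .bad [3, 0, 1, 0, 1] 2], .sub [4, 3, 2, 3, 4, 5, 3, 6, 1, 2, 3, 5, 4, 3, 2, 1, 6, 3, 5, 4, 3, 2, 3, 4] [.bad [] 2, .bad [3, 0, 1, 0, 1] 2], .sub [3, 0] [.bad [] 2, .bad [3, 0, 1, 0, 1] 2], .sub [4, 3, 5, 3, 0, 4] [.bad [] 2, .bad [3, 0, 1, 0, 1] 2], .sub [5, 3, 2, 6, 1, 2, 3, 5, 4, 3, 2, 1, 6, 3, 5, 2, 3, 2, 3, 5, 4, 3, 2, 3, 2] [.bad [] 2, .bad [3, 0, 1, 0,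 1] 2], .sub [4, 3, 5, 3, 4, 3] [.bad [] 2, .bad [3, 0, 1, 0, 1] 2], .sub [4, 3, 2, 3, 4, 5, 3, 6, 1, 2, 3, 5, 4, 3, 2, 1, 6, 3, 5, 4, 3, 2, 3, 4, 3] [.bad [] 2, .bad [3, 0, 1, 0, 1] 2], .sub [4, 3, 2, 3, 4, 5, 3, 6, 1, 2, 3, 5, 4, 3, 2, 1, 6, 3, 5, 4, 3, 2, 5, 3, 4] [.bad [] 2, .bad [3, 0, 1, 0, 1] 2], .sub [2, 3, 2, 3, 4, 5, 3, 2, 3, 2, 5, 3, 6, 1, 2, 3, 5, 4, 3, 2, 1, 6, 2, 3, 5] [.bad [] 2, .bad [3, 0, 1, 0, 1] 2], .sub [4, 3, 5, 2, 3, 4, 5, 3, 6, 1, 2, 3, 5, 4, 3, 2, 1, 6, 3, 5, 4, 3, 2, 3, 4] [.bad [] 2, .bad [3, 0, 1, 0, 1] 2], .sub [4, 3, 5, 3, 0, 4, 3] [.bad [] 2, .bad [3, 0, 1, 0, 1] 2], .sub [6, 3, 5, 2, 3, 4, 6, 3, 2, 5, 3, 6, 5, 3, 6, 1, 2, 3, 5, 4, 3, 2, 1, 6, 3, 5] [.bad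 [] 2, .bad [3, 0, 1, 0, 1] 2], .sub [0, 4, 3, 2, 3, 4, 5, 3, 6, 1, 2, 3, 5, 4, 3, 2, 1, 6, 3, 5, 4, 3, 2, 5, 3, 4] [.bad [] 2, .bad [3, 0, 1, 0, 1] 2]],
  .out 75,
  .out 732,
  .out 128,
  .out 421,
  .sub [2, 3, 2, 3, 5, 3, 2, 3, 2] [.sub [] [.bad [] 2, .bad [3, 0, 1, 0, 1] 2], .sub [0] [.bad [] 2, .bad [3, 0, 1, 0, 1] 2], .sub [3] [.bad [] 2, .bad [3, 0, 1, 0, 1] 2], .sub [4, 3, 5, 3, 4] [.bad [] 2, .bad [3, 0, 1, 0, 1] 2], .sub [4, 3, 2, 3, 4, 5, 3, 6, 1, 2, 3, 5, 4, 3, 2, 1, 6, 3, 5, 4, 3, 2, 3, 4] [.bad [] 2, .bad [3, 0, 1, 0, 1] 2], .sub [3, 0] [.bad [] 2, .bad [3, 0, 1, 0, 1] 2], .sub [4, 3, 5, 3, 0, 4] [.bad [] 2, .bad [3, 0, 1, 0, 1] 2], .sub [5, 3, 2, 6, 1, 2, 3, 5, 4, 3, 2,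 1, 6, 3, 5, 2, 3, 2, 3, 5, 4, 3, 2, 3, 2] [.bad [] 2, .bad [3, 0, 1, 0, 1] 2], .sub [4, 3, 5, 3, 4, 3] [.bad [] 2, .bad [3, 0, 1, 0, 1] 2], .sub [4, 3, 2, 3, 4, 5, 3, 6, 1, 2, 3, 5, 4, 3, 2, 1, 6, 3, 5, 4, 3, 2, 3, 4, 3] [.bad [] 2, .bad [3, 0, 1, 0, 1] 2], .sub [4, 3, 2, 3, 4, 5, 3, 6, 1, 2, 3, 5, 4, 3, 2, 1, 6, 3, 5, 4, 3, 2, 5, 3, 4] [.bad [] 2, .bad [3, 0, 1, 0, 1] 2], .sub [2, 3, 2, 3, 4, 5, 3, 2, 3, 2, 5, 3, 6, 1, 2, 3, 5, 4, 3, 2, 1, 6, 2, 3, 5] [.bad [] 2, .bad [3, 0, 1, 0, 1] 2], .sub [4, 3, 5, 2, 3, 4, 5, 3, 6, 1, 2, 3, 5, 4, 3, 2, 1, 6, 3, 5, 4, 3, 2, 3, 4] [.bad [] 2, .bad [3, 0, 1, 0, 1] 2], .sub [4, 3, 5, 3, 0, 4, 3] [.bad [] 2, .bad [3, 0, 1, 0, 1] 2], .sub [6, 3, 5, 2,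 3, 4, 6, 3, 2, 5, 3, 6, 5, 3, 6, 1, 2, 3, 5, 4, 3, 2, 1, 6, 3, 5] [.bad [] 2, .bad [3, 0, 1, 0, 1] 2], .sub [0, 4, 3, 2, 3, 4, 5, 3, 6, 1, 2, 3, 5, 4, 3, 2, 1, 6, 3, 5, 4, 3, 2, 5, 3, 4] [.bad [] 2, .bad [3, 0, 1, 0, 1] 2]],
  .out 157,
  .out 673,
  .out 627,
  .sub [5, 3, 2, 3, 5, 4, 3, 2, 3, 4, 6, 3, 1, 2, 3, 6, 5, 3, 2, 1, 2, 3, 5, 6, 3, 2, 1, 3, 6] [.sub [] [.bad [] 2, .bad [3, 0, 1, 0, 1] 2], .sub [0] [.bad [] 2, .bad [3, 0, 1, 0, 1] 2], .sub [3] [.bad [] 2, .bad [3, 0, 1, 0, 1] 2], .sub [4, 3, 5, 3, 4] [.bad [] 2, .bad [3, 0, 1, 0, 1] 2], .sub [4, 3, 2, 3, 4, 5, 3, 6, 1, 2, 3, 5, 4, 3, 2, 1, 6, 3, 5, 4, 3, 2, 3, 4] [.bad [] 2, .bad [3, 0, 1, 0, 1] 2], .sub [3, 0] [.bad [] 2, .bad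 [3, 0, 1, 0, 1] 2], .sub [4, 3, 5, 3, 0, 4] [.bad [] 2, .bad [3, 0, 1, 0, 1] 2], .sub [5, 3, 2, 6, 1, 2, 3, 5, 4, 3, 2, 1, 6, 3, 5, 2, 3, 2, 3, 5, 4, 3, 2, 3, 2] [.bad [] 2, .bad [3, 0, 1, 0, 1] 2], .sub [4, 3, 5, 3, 4, 3] [.bad [] 2, .bad [3, 0, 1, 0, 1] 2], .sub [4, 3, 2, 3, 4, 5, 3, 6, 1, 2, 3, 5, 4, 3, 2, 1, 6, 3, 5, 4, 3, 2, 3, 4, 3] [.bad [] 2, .bad [3, 0, 1, 0, 1] 2], .sub [4, 3, 2, 3, 4, 5, 3, 6, 1, 2, 3, 5, 4, 3, 2, 1, 6, 3, 5, 4, 3, 2, 5, 3, 4] [.bad [] 2, .bad [3, 0, 1, 0, 1] 2], .sub [2, 3, 2, 3, 4, 5, 3, 2, 3, 2, 5, 3, 6, 1, 2, 3, 5, 4, 3, 2, 1, 6, 2, 3, 5] [.bad [] 2, .bad [3, 0, 1, 0, 1] 2], .sub [4, 3, 5, 2, 3, 4, 5, 3, 6, 1, 2, 3, 5, 4, 3, 2, 1, 6, 3, 5, 4, 3, 2, 3, 4]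 [.bad [] 2, .bad [3, 0, 1, 0, 1] 2], .sub [4, 3, 5, 3, 0, 4, 3] [.bad [] 2, .bad [3, 0, 1, 0, 1] 2], .sub [6, 3, 5, 2, 3, 4, 6, 3, 2, 5, 3, 6, 5, 3, 6, 1, 2, 3, 5, 4, 3, 2, 1, 6, 3, 5] [.bad [] 2, .bad [3, 0, 1, 0, 1] 2], .sub [0, 4, 3, 2, 3, 4, 5, 3, 6, 1, 2, 3, 5, 4, 3, 2, 1, 6, 3, 5, 4, 3, 2, 5, 3, 4] [.bad [] 2, .bad [3, 0, 1, 0, 1] 2]],
  .out 277,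
  .out 1981,
  .out 726,
  .out 1027,
  .out 78,
  .out 841,
  .out 69,
  .out 419,
  .out 2011,
  .sub [5, 3, 2, 3, 5, 4, 3, 2, 3, 4, 6, 3, 0, 1, 2, 3, 6, 5, 3, 2, 1, 2, 3, 5, 6, 3, 2, 1, 3, 6] [.sub [] [.bad [] 2, .bad [3, 0, 1, 0, 1] 2], .sub [0] [.bad [] 2, .bad [3, 0, 1, 0, 1] 2], .sub [3] [.bad [] 2, .bad [3, 0, 1, 0, 1] 2], .sub [4, 3, 5, 3, 4] [.bad [] 2, .bad [3, 0, 1, 0, 1] 2], .sub [4, 3, 2, 3, 4, 5, 3, 6, 1, 2, 3, 5, 4, 3, 2, 1, 6, 3, 5, 4, 3, 2, 3, 4] [.bad [] 2, .bad [3, 0, 1, 0, 1] 2], .sub [3, 0] [.bad [] 2, .bad [3, 0, 1, 0, 1] 2], .sub [4, 3, 5, 3, 0, 4] [.bad [] 2, .bad [3, 0, 1, 0, 1] 2], .sub [5, 3, 2, 6, 1, 2, 3, 5, 4, 3, 2, 1, 6, 3, 5, 2, 3, 2, 3, 5, 4, 3, 2, 3,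 2] [.bad [] 2, .bad [3, 0, 1, 0, 1] 2], .sub [4, 3, 5, 3, 4, 3] [.bad [] 2, .bad [3, 0, 1, 0, 1] 2], .sub [4, 3, 2, 3, 4, 5, 3, 6, 1, 2, 3, 5, 4, 3, 2, 1, 6, 3, 5, 4, 3, 2, 3, 4, 3] [.bad [] 2, .bad [3, 0, 1, 0, 1] 2], .sub [4, 3, 2, 3, 4, 5, 3, 6, 1, 2, 3, 5, 4, 3, 2, 1, 6, 3, 5, 4, 3, 2, 5, 3, 4] [.bad [] 2, .bad [3, 0, 1, 0, 1] 2], .sub [2, 3, 2, 3, 4, 5, 3, 2, 3, 2, 5, 3, 6, 1, 2, 3, 5, 4, 3, 2, 1, 6, 2, 3, 5] [.bad [] 2, .bad [3, 0, 1, 0, 1] 2], .sub [4, 3, 5, 2, 3, 4, 5, 3, 6, 1, 2, 3, 5, 4, 3, 2, 1, 6, 3, 5, 4, 3, 2, 3, 4] [.bad [] 2, .bad [3, 0, 1, 0, 1] 2], .sub [4, 3, 5, 3, 0, 4, 3] [.bad [] 2, .bad [3, 0, 1, 0, 1] 2], .sub [6, 3, 5, 2, 3, 4, 6, 3, 2, 5, 3, 6, 5, 3, 6, 1, 2,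 3, 5, 4, 3, 2, 1, 6, 3, 5] [.bad [] 2, .bad [3, 0, 1, 0, 1] 2], .sub [0, 4, 3, 2, 3, 4, 5, 3, 6, 1, 2, 3, 5, 4, 3, 2, 1, 6, 3, 5, 4, 3, 2, 5, 3, 4] [.bad [] 2, .bad [3, 0, 1, 0, 1] 2]],
  .out 506,
  .out 1164,
  .out 434,
  .out 181,
  .out 744,
  .out 105,
  .sub [5, 3, 2, 3, 5, 4, 3, 2, 3, 4] [.sub [] [.bad [] 2, .bad [3, 0, 1, 0, 1] 2], .sub [0] [.bad [] 2, .bad [3, 0, 1, 0, 1] 2], .sub [3] [.bad [] 2, .bad [3, 0, 1, 0, 1] 2], .sub [4, 3, 5, 3, 4] [.bad [] 2, .bad [3, 0, 1, 0, 1] 2], .sub [4, 3, 2, 3, 4, 5, 3, 6, 1, 2, 3, 5, 4, 3, 2, 1, 6, 3, 5, 4, 3, 2, 3, 4] [.bad [] 2, .bad [3, 0, 1, 0, 1] 2], .sub [3, 0] [.bad [] 2, .bad [3, 0, 1, 0, 1] 2], .sub [4, 3, 5, 3, 0, 4] [.bad [] 2,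 .bad [3, 0, 1, 0, 1] 2], .sub [5, 3, 2, 6, 1, 2, 3, 5, 4, 3, 2, 1, 6, 3, 5, 2, 3, 2, 3, 5, 4, 3, 2, 3, 2] [.bad [] 2, .bad [3, 0, 1, 0, 1] 2], .sub [4, 3, 5, 3, 4, 3] [.bad [] 2, .bad [3, 0, 1, 0, 1] 2], .sub [4, 3, 2, 3, 4, 5, 3, 6, 1, 2, 3, 5, 4, 3, 2, 1, 6, 3, 5, 4, 3, 2, 3, 4, 3] [.bad [] 2, .bad [3, 0, 1, 0, 1] 2], .sub [4, 3, 2, 3, 4, 5, 3, 6, 1, 2, 3, 5, 4, 3, 2, 1, 6, 3, 5, 4, 3, 2, 5, 3, 4] [.bad [] 2, .bad [3, 0, 1, 0, 1] 2], .sub [2, 3, 2, 3, 4, 5, 3, 2, 3, 2, 5, 3, 6, 1, 2, 3, 5, 4, 3, 2, 1, 6, 2, 3, 5] [.bad [] 2, .bad [3, 0, 1, 0, 1] 2], .sub [4, 3, 5, 2, 3, 4, 5, 3, 6, 1, 2, 3, 5, 4, 3, 2, 1, 6, 3, 5, 4, 3, 2, 3, 4] [.bad [] 2, .bad [3, 0, 1, 0, 1] 2], .sub [4, 3, 5, 3,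 0, 4, 3] [.bad [] 2, .bad [3, 0, 1, 0, 1] 2], .sub [6, 3, 5, 2, 3, 4, 6, 3, 2, 5, 3, 6, 5, 3, 6, 1, 2, 3, 5, 4, 3, 2, 1, 6, 3, 5] [.bad [] 2, .bad [3, 0, 1, 0, 1] 2], .sub [0, 4, 3, 2, 3, 4, 5, 3, 6, 1, 2, 3, 5, 4, 3, 2, 1, 6, 3, 5, 4, 3, 2, 5, 3, 4] [.bad [] 2, .bad [3, 0, 1, 0, 1] 2]],
  .out 776,
  .out 478,
  .out 453,
  .out 754,
  .out 1104,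
  .out 710,
  .out 690,
  .out 1554]

/-- The branches. -/
def kids4 : List Branch := kids4Part0

end CfsgLib.Spor.HeInvCent
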