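/-
An involution centralizer of the presented Held group and the centralizer of a transvection.
-/
import Cfsg.Agent.Lib.Spor.HeInvCent.CC.All
import Cfsg.Agent.Lib.Spor.HeInvCent.CD.All
import Cfsg.Agent.Lib.Spor.HeInvCent.ActP.All
import Cfsg.Agent.Lib.Spor.HeInvCent.ActV.All
import Cfsg.Agent.Lib.Spor.HeInvCent.Data
import Cfsg.Agent.Lib.Spor.HeInvCent.CheckModes
import Cfsg.Agent.Lib.Spor.HeInvCent.CheckChain
import Cfsg.Agent.Lib.Spor.HeInvCent.CheckSearch0
import Cfsg.Agent.Lib.Spor.HeInvCent.CheckSearch1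
import Cfsg.Agent.Lib.Spor.HeInvCent.CheckSearch2
import Cfsg.Agent.Lib.Spor.HeInvCent.CheckSearch3
import Cfsg.Agent.Lib.Spor.HeInvCent.CheckSearch4
import Cfsg.Agent.Lib.Spor.HeInvCent.CheckSearch5
import Cfsg.Agent.Lib.Spor.HeInvCent.CheckSearch6
import Cfsg.Agent.Lib.Spor.HeInvCent.CheckSearch7
import Cfsg.Agent.Lib.Spor.HeInvCent.CheckSearch8
import Cfsg.Agent.Lib.Spor.Held.Order
import Cfsg.Agent.Lib.Spor.Held.Cox
import Cfsg.Agent.Lib.Spor.SLFiveTransv
import Cfsg.Agent.Lib.Spor.ActCert.Out

set_option autoImplicit false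
set_option maxRecDepth 100000
set_option maxHeartbeats 1000000

namespace CfsgLib.Spor.HeInvCent

open Subgroup CfsgLib.Spor.TC CfsgLib.Spor.ActCert CfsgLib.Spor.PermCert

local notation "HA" => CfsgLib.Spor.Held.ActH.act
local notation "P₀" => Pres (Act.k CfsgLib.Spor.Held.ActH.act) CfsgLib.Spor.Held.relsG
local notation "PC" => Pres 3 relsC

instance neZero_pts : NeZero CfsgLib.Spor.Held.ActH.act.n := ⟨Nat.succ_ne_zero 2057⟩

theorem card_le : Nat.card PC ≠ 0 ∧ Nat.card PC ≤ 2688 * 8 :=
  CC.cosetCert.card_le (rels' := relsD) (l := 2) (by decide) (by decide +kernel) CD.cosetCert.card_le_bot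

theorem rho_injP : Function.Injective ActP.valid.rho :=
  Held.rho_injective ActP.valid ActP.bases_ok ⟨card_le.1, card_le.2.trans (le_of_eq (by decide +kernel))⟩

theorem rho_injV : Function.Injective ActV.valid.rho :=
  Held.rho_injective ActV.valid ActV.bases_ok ⟨card_le.1, card_le.2.trans (le_of_eq (by decide +kernel))⟩

theorem card_eq : Nat.card PC = 21504 :=
  le_antisymm card_le.2 ((le_of_eq (by decide +kernel : (21504 : ℕ) = levelsProd ActP.bases)).trans
    (card_pres_ge ActP.act ActP.valid ActP.bases_ok card_le.1))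

theorem exact_held : Exact Held.ActH.valid lev := by
  haveI : Finite P₀ := Nat.finite_of_card_ne_zero (ne_of_eq_of_ne Held.card_held (by norm_num))
  exact ⟨chain_ok.1, Held.rho_injective_held, by rw [Held.card_held, chain_ok.2], by rw [chain_ok.2]; norm_num⟩

/-- The involution of the Held group. -/
noncomputable def zH : P₀ := el HA Held.relsG zw

theorem words_comm : (orbWords.all fun t => sameW HA lev (t ++ zw) (zw ++ t)) = true ∧
    (genWords.all fun t => sameW HA lev (t ++ zw) (zw ++ t)) = true := by decide +kernel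

theorem fix_facts : (orbWords.map fun t => Act.wact HA t 0) = fixPts ∧ Act.wact HA zw 0 = 0 ∧
    orbWords.length = 42 ∧ allowed.length = 512 ∧
    (fixPts.all fun c => outside.contains c || seconds.any fun s => Nat.beq s.1 c) = true := by decide +kernel

theorem outside_ok : (outside.all fun c => !lev1.mem c) = true := by decide +kernel

theorem seconds_ok : (seconds.all fun s => (s.2.all fun a => Nat.blt a (Act.K HA)) &&
    Nat.beq (Act.wact HA s.2 0) 0 && Nat.beq (Act.wact HA s.2 78) s.1) = true := by decide +kernel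

/-- A commuting element sends a fixed point to a fixed point. -/
theorem image_mem_fixPts {g : P₀} (hg : g * zH = zH * g) {b : ℕ} (hb : b < Act.n HA)
    (hfix : Act.wact HA zw b = b) : (Held.ActH.valid.rho g (pnt _ b)).1 ∈ fixPts := by
  have hz : ∀ a ∈ zw, a < Act.K HA := by
    intro a ha
    simp only [zw, List.mem_singleton] at ha
    subst ha
    decide +kernel
  have hl : ((List.range (Act.n HA)).all fun c => !Nat.beq (Act.wact HA zw c) c || fixPts.contains c) = true := by
    decide +kernel
  simp only [List.all_eq_true, List.mem_range, Bool.or_eq_true, Bool.not_eq_true', List.contains_eq_mem,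
    decide_eq_true_eq] at hl
  have h1 : Held.ActH.valid.rho zH (Held.ActH.valid.rho g (pnt _ b)) = Held.ActH.valid.rho g (pnt _ b) := by
    rw [← Equiv.Perm.mul_apply, ← map_mul, ← hg, map_mul, Equiv.Perm.mul_apply]
    exact congrArg _ (Fin.ext (by rw [zH, rho_el Held.ActH.valid hz, pnt_val hb, hfix]))
  have h2 := congrArg Fin.val h1
  rw [zH, rho_el Held.ActH.valid hz] at h2
  refine (hl _ (Held.ActH.valid.rho g (pnt _ b)).2).resolve_left ?_
  rw [Bool.not_eq_false]
  rw [h2]
  exact Nat.beq_refl _

theorem search_all (s : ℕ × List ℕ) (hs : s ∈ seconds) : ∃ kids : List Branch,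
    searchOK HA zw fixPts allowed (lev.drop 2) (modes.drop 2) [0, 78] [0, s.1] s.2 kids = true := by
  simp only [seconds, List.mem_cons, List.not_mem_nil, or_false] at hs
  rcases hs with rfl | rfl | rfl | rfl | rfl | rfl | rfl | rfl | rfl
  · exact ⟨_, search0_ok⟩
  · exact ⟨_, search1_ok⟩
  · exact ⟨_, search2_ok⟩
  · exact ⟨_, search3_ok⟩
  · exact ⟨_, search4_ok⟩
  · exact ⟨_, search5_ok⟩
  · exact ⟨_, search6_ok⟩
  · exact ⟨_, search7_ok⟩
  · exact ⟨_, search8_ok⟩

/-- A commuting element fixing the first base point is listed. -/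
theorem allowed_of_fix {g : P₀} (hg : g * zH = zH * g) (h0 : (Held.ActH.valid.rho g (pnt _ 0)).1 = 0) :
    ∃ a ∈ allowed, g = el HA Held.relsG a := by
  set c := (Held.ActH.valid.rho g (pnt _ 78)).1 with hc
  have hmem : c ∈ fixPts := image_mem_fixPts hg (by decide +kernel) (by decide +kernel)
  have horb : lev1.mem c = true := by
    have h := exact_held.mem_orbit (l := 1) (by decide) (g := g) fun i hi => by
      obtain rfl : i = 0 := by omega
      exact Fin.ext (h0.trans (pnt_val (by decide +kernel : 0 < Act.n HA)).symm)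
    exact h
  have hcov := fix_facts.2.2.2.2
  simp only [List.all_eq_true, Bool.or_eq_true, List.any_eq_true, List.contains_eq_mem, decide_eq_true_eq] at hcov
  rcases hcov c hmem with hout | ⟨s, hs, hsc⟩
  · have hno := outside_ok
    simp only [List.all_eq_true, Bool.not_eq_true'] at hno
    rw [hno c hout] at horb
    cases horb
  · obtain ⟨kids, hk⟩ := search_all s hs
    have hso := seconds_ok
    simp only [List.all_eq_true, Bool.and_eq_true] at hso
    obtain ⟨⟨hu, hu0⟩, hu1⟩ := hso s hs
    have hsc' := Nat.eq_of_beq_eq_true hsc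
    refine search_spec exact_held modes_ok hg (lev.drop 2) (modes.drop 2) 2 rfl rfl s.2 [0, s.1] kids ?_ ?_ ?_ hk
    · show [0, s.1] = [(Held.ActH.valid.rho g (pnt _ 0)).1, (Held.ActH.valid.rho g (pnt _ 78)).1]
      rw [h0, ← hc, hsc']
    · exact fun a ha => Nat.le_of_ble_eq_true (hu a ha)
    · intro L hL
      simp only [lev, List.take_succ_cons, List.take_zero, List.mem_cons, List.not_mem_nil, or_false] at hL
      rcases hL with rfl | rfl
      · exact (Nat.eq_of_beq_eq_true hu0).trans h0.symm
      · exact ((Nat.eq_of_beq_eq_true hu1).trans hsc').trans hc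

/-- The centralizer has at most 21504 elements. -/
theorem card_centralizer_le : Nat.card (centralizer ({zH} : Set P₀)) ≤ 21504 := by
  have hcom : ∀ g : centralizer ({zH} : Set P₀), (g : P₀) * zH = zH * g := fun g =>
    mem_centralizer_singleton_iff.1 g.2
  have key : ∀ g : centralizer ({zH} : Set P₀), ∃ p : Fin orbWords.length × Fin allowed.length,
      (g : P₀) = el HA Held.relsG orbWords[p.1] * el HA Held.relsG allowed[p.2] := by
    intro g
    have hc : (Held.ActH.valid.rho (g : P₀) (pnt _ 0)).1 ∈ fixPts :=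
      image_mem_fixPts (hcom g) (by decide +kernel) fix_facts.2.1
    rw [← fix_facts.1, List.mem_map] at hc
    obtain ⟨t, ht, htc⟩ := hc
    have h1 := List.all_eq_true.1 words_comm.1 t ht
    have h2 := el_eq exact_held h1
    rw [el_append, el_append] at h2
    have hlt : ∀ a ∈ t, a < Act.K HA := fun a ha => by
      simp only [sameW, Bool.and_eq_true, List.all_eq_true] at h1
      exact Nat.le_of_ble_eq_true (h1.1.1 a (List.mem_append_left _ ha))
    have hcg : ((el HA Held.relsG t)⁻¹ * g) * zH = zH * ((el HA Held.relsG t)⁻¹ * g) := by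
      have ct : Commute (el HA Held.relsG t) zH := h2
      rw [mul_assoc, hcom g, ← mul_assoc, ct.inv_left.eq, mul_assoc]
    obtain ⟨a, ha, e⟩ := allowed_of_fix hcg (by
      have e0 : Held.ActH.valid.rho (el HA Held.relsG t) (pnt _ 0) = Held.ActH.valid.rho (g : P₀) (pnt _ 0) :=
        Fin.ext (by rw [rho_el Held.ActH.valid hlt, pnt_val (by decide +kernel : 0 < Act.n HA), htc])
      rw [map_mul, map_inv, Equiv.Perm.mul_apply, ← e0, Equiv.Perm.inv_def, Equiv.symm_apply_apply,
        pnt_val (by decide +kernel : 0 < Act.n HA)])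
    obtain ⟨i, hi, rfl⟩ := List.getElem_of_mem ht
    obtain ⟨j, hj, rfl⟩ := List.getElem_of_mem ha
    exact ⟨(⟨i, hi⟩, ⟨j, hj⟩), (inv_mul_eq_iff_eq_mul.1 e)⟩
  choose f hf using key
  have hinj : Function.Injective f := fun a b e => Subtype.ext (by rw [hf a, hf b, e])
  calc Nat.card (centralizer ({zH} : Set P₀)) ≤ Nat.card (Fin orbWords.length × Fin allowed.length) :=
        Nat.card_le_card_of_injective f hinj
    _ = 21504 := by simp [fix_facts.2.2.1, fix_facts.2.2.2.1]

theorem orderOf_zH : orderOf zH = 2 := by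
  haveI : Fact (Nat.Prime 2) := ⟨Nat.prime_two⟩
  refine orderOf_eq_prime ?_ (el_ne_one exact_held (by decide +kernel))
  rw [pow_two, zH, ← el_append, ← el_nil (A := HA) (rels := Held.relsG)]
  exact el_eq exact_held (by decide +kernel)

/-- A word in the involutions as a word in the letters. -/
def spellW (ws : List (List ℕ)) : List ℕ → List ℕ
  | [] => []
  | x :: w => ws.getD x [] ++ spellW ws w

/-- Images of the involutions in the Held group. -/
noncomputable def imgH (x : ℕ) : P₀ := el HA Held.relsG (genWords.getD x [])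

theorem sat_words : (relsC.all fun r => sameW HA lev (powWord (spellW genWords r.1) r.2) []) = true ∧
    ((List.range 3).all fun x => sameW HA lev (genWords.getD x [] ++ genWords.getD x []) []) = true := by
  decide +kernel

theorem el_spell : ∀ w : List ℕ, el HA Held.relsG (spellW genWords w) = ev imgH w
  | [] => el_nil
  | x :: w => by rw [spellW, el_append, el_spell w, ev_cons]; rfl

theorem sat_H : Sat 3 relsC imgH := by
  have h1 := sat_words.1
  have h2 := sat_words.2
  simp only [List.all_eq_true, List.mem_range] at h1 h2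
  have hout : ∀ x, 3 ≤ x → imgH x = 1 := fun x hx => by
    rw [imgH, List.getD_eq_default _ _ (by simpa [genWords] using hx), el_nil]
  refine ⟨fun x => ?_, hout, fun r hr => ?_⟩
  · by_cases hx : x < 3
    · rw [imgH, ← el_append, el_eq exact_held (h2 x hx), el_nil]
    · rw [hout x (by omega), one_mul]
  · have h := el_eq exact_held (h1 r hr)
    rw [el_nil] at h
    have e : ∀ (w : List ℕ) (m : ℕ), el HA Held.relsG (powWord w m) = el HA Held.relsG w ^ m := fun w m =>
      ev_powWord _ w m
    rwa [e, el_spell] at h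

/-- The map to the Held group. -/
noncomputable def phi : PC →* P₀ := presHom sat_H

theorem table_words : ((List.range 3).all fun x => ((genWords.getD x []).all fun a => Nat.blt a (Act.K HA)) &&
    allFrom (fun c => Nat.beq (Act.wact HA (genWords.getD x []) c) (ActP.act.T x c)) 0 2058) = true := by
  decide +kernel

/-- The three permutations of the points. -/
noncomputable def rhoP : PC →* Equiv.Perm (Fin 2058) := ActP.valid.rho

/-- The Held group on the points. -/
noncomputable def rhoH : P₀ →* Equiv.Perm (Fin 2058) := Held.ActH.valid.rho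

theorem rhoP_gen {x : ℕ} (hx : x < 3) (d : Fin 2058) : (rhoP (presGen 3 relsC x) d : ℕ) = ActP.act.T x d := by
  have h : ActP.valid.rho (presGen ActP.act.k relsC x) = ActP.valid.invPerm x := presHom_gen ActP.valid.sat x
  exact (congrArg (fun p : Equiv.Perm (Fin ActP.act.n) => (p d : ℕ)) h).trans (ActP.valid.invPerm_apply hx d)

theorem rhoH_word {w : List ℕ} (hw : ∀ a ∈ w, a < Act.K HA) (d : Fin 2058) :
    (rhoH (el HA Held.relsG w) d : ℕ) = Act.wact HA w d := rho_el Held.ActH.valid hw d

theorem rho_phi : rhoH.comp phi = rhoP := by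
  have key : ∀ x < 3, rhoH (phi (presGen 3 relsC x)) = rhoP (presGen 3 relsC x) := by
    intro x hx
    have ht := table_words
    simp only [List.all_eq_true, List.mem_range, Bool.and_eq_true] at ht
    obtain ⟨hlt, heq⟩ := ht x hx
    refine Equiv.ext fun d => Fin.ext ?_
    rw [rhoP_gen hx, phi, presHom_gen, imgH, rhoH_word (fun a ha => Nat.le_of_ble_eq_true (hlt a ha))]
    exact Nat.eq_of_beq_eq_true (allFrom_spec heq d (Nat.zero_le _) (by rw [zero_add]; exact d.2))
  exact MonoidHom.eq_of_eqOn_dense (closure_presGen 3 relsC) (by rintro _ ⟨x, hx, rfl⟩; exact key x hx)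

theorem phi_injective : Function.Injective phi := fun a b e => by
  have h : rhoP a = rhoP b := by rw [← rho_phi, MonoidHom.comp_apply, MonoidHom.comp_apply, e]
  exact rho_injP h

theorem range_phi : phi.range = centralizer ({zH} : Set P₀) := by
  haveI : Finite P₀ := Nat.finite_of_card_ne_zero (ne_of_eq_of_ne Held.card_held (by norm_num))
  refine Subgroup.eq_of_le_of_card_ge ?_ ?_
  · rw [phi, range_presHom, Subgroup.closure_le]
    rintro _ ⟨x, hx, rfl⟩
    have h := words_comm.2
    simp only [List.all_eq_true] at h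
    have hm : genWords.getD x [] ∈ genWords := by
      rw [List.getD_eq_getElem _ _ (by simpa [genWords] using hx)]
      exact List.getElem_mem _
    have := el_eq exact_held (h _ hm)
    rw [el_append, el_append] at this
    exact mem_centralizer_singleton_iff.2 this
  · rw [← Nat.card_congr (MonoidHom.ofInjective phi_injective).toEquiv, card_eq]
    exact card_centralizer_le

/-- Three involutions commuting with the transvection. -/
def mats : List (Matrix (Fin 5) (Fin 5) (ZMod 2)) := [!![1, 1, 0, 0, 0; 0, 1, 0, 0, 0; 0, 0, 1, 0, 0; 0, 1, 0, 0, 1; 0, 1, 0, 1, 0], !![1, 0, 1, 0, 1; 0, 1, 0, 0, 0; 0, 1, 0, 1, 1; 0, 0, 0, 1, 0; 0, 1, 1, 1, 0], !![1, 1, 0, 0, 0; 0, 1, 0, 0, 0; 0, 0, 0, 0, 1; 0, 1, 1, 1, 1; 0, 0, 1, 0, 0]]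

theorem mats_det : ∀ x : Fin 3, (mats.getD x 1).det = 1 := by decide +kernel

/-- Images of the involutions in the linear group. -/
noncomputable def imgV (x : ℕ) : SLFiveTransv.SL5 :=
  if h : x < 3 then (⟨mats.getD x 1, mats_det ⟨x, h⟩⟩ : SLFiveTransv.SL5) else 1

theorem imgV_val {x : ℕ} (hx : x < 3) : ((imgV x : SLFiveTransv.SL5) : SLFiveTransv.M5) = mats.getD x 1 :=
  congrArg Subtype.val (dif_pos hx :)

/-- The vector of a bit code. -/
def vec (c : ℕ) : Fin 5 → ZMod 2 := fun i => if c.testBit i then 1 else 0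

theorem table_mats : ∀ x : Fin 3, ∀ c : Fin 32,
    (mats.getD x 1).mulVec (vec c) = vec (ActV.act.T x c) := by decide +kernel

theorem vec_facts : (∀ c d : Fin 32, vec c = vec d → c = d) ∧
    ∀ j : Fin 5, ∃ c : Fin 32, vec c = Pi.single j 1 := by decide +kernel

theorem inv_ok : ∀ x : Fin 3, mats.getD x 1 * mats.getD x 1 = 1 := by decide +kernel

theorem rel_ok : (relsC.all fun r => decide ((ev (G := SLFiveTransv.SL5) imgV r.1 ^ r.2).1 = 1)) = true := by
  decide +kernel

theorem sat_V : Sat 3 relsC imgV := by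
  refine ⟨fun x => ?_, fun x hx => dif_neg (Nat.not_lt.2 hx), fun r hr => ?_⟩
  · by_cases hx : x < 3
    · refine Subtype.ext ?_
      rw [Matrix.SpecialLinearGroup.coe_mul, imgV_val hx, Matrix.SpecialLinearGroup.coe_one]
      exact inv_ok ⟨x, hx⟩
    · rw [show imgV x = 1 from dif_neg hx, one_mul]
  · have h := rel_ok
    simp only [List.all_eq_true, decide_eq_true_eq] at h
    exact Subtype.ext (h r hr)

/-- The map to the linear group. -/
noncomputable def psi : PC →* SLFiveTransv.SL5 := presHom sat_V

/-- The three permutations of the vectors. -/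
noncomputable def rhoV : PC →* Equiv.Perm (Fin 32) := ActV.valid.rho

theorem rhoV_gen {x : ℕ} (hx : x < 3) (d : Fin 32) : (rhoV (presGen 3 relsC x) d : ℕ) = ActV.act.T x d := by
  have h : ActV.valid.rho (presGen ActV.act.k relsC x) = ActV.valid.invPerm x := presHom_gen ActV.valid.sat x
  exact (congrArg (fun p : Equiv.Perm (Fin ActV.act.n) => (p d : ℕ)) h).trans (ActV.valid.invPerm_apply hx d)

theorem rho_psi (g : PC) : ∀ c : Fin 32, ((psi g : SLFiveTransv.SL5) : SLFiveTransv.M5).mulVec (vec c) =
    vec (rhoV g c : ℕ) := by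
  have hg : g ∈ Subgroup.closure (presGen 3 relsC '' Set.Iio 3) := by rw [closure_presGen]; trivial
  refine Subgroup.closure_induction (p := fun g _ => ∀ c : Fin 32,
    ((psi g : SLFiveTransv.SL5) : SLFiveTransv.M5).mulVec (vec c) = vec (rhoV g c : ℕ)) ?_ ?_ ?_ ?_ hg
  · rintro _ ⟨x, hx, rfl⟩ c
    rw [rhoV_gen hx, psi, presHom_gen, imgV_val hx]
    exact table_mats ⟨x, hx⟩ c
  · intro c
    rw [map_one, map_one, Matrix.SpecialLinearGroup.coe_one, Matrix.one_mulVec]
    rfl
  · intro a b _ _ ha hb c
    rw [map_mul, map_mul, Matrix.SpecialLinearGroup.coe_mul, ← Matrix.mulVec_mulVec, hb, Equiv.Perm.mul_apply]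
    exact ha _
  · intro a _ ha c
    set y := (rhoV a)⁻¹ c with hy
    have h1 : rhoV a y = c := by rw [hy, Equiv.Perm.inv_def, Equiv.apply_symm_apply]
    have h2 : ((psi a : SLFiveTransv.SL5) : SLFiveTransv.M5).mulVec (vec y) = vec c := by rw [ha, h1]
    rw [← h2, Matrix.mulVec_mulVec, ← Matrix.SpecialLinearGroup.coe_mul, ← map_mul, inv_mul_cancel, map_one,
      Matrix.SpecialLinearGroup.coe_one, Matrix.one_mulVec, map_inv, ← hy]

theorem psi_injective : Function.Injective psi := fun a b e => by
  have h : rhoV a = rhoV b := Equiv.ext fun c => vec_facts.1 _ _ (by rw [← rho_psi a c, ← rho_psi b c, e])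
  exact rho_injV h

theorem mats_comm : ∀ x : Fin 3, mats.getD x 1 * Matrix.transvection 0 1 1 =
    Matrix.transvection 0 1 1 * mats.getD x 1 := by decide +kernel

theorem range_psi (s : SLFiveTransv.SL5) (hs : (s : SLFiveTransv.M5) = Matrix.transvection 0 1 1) :
    psi.range = centralizer ({s} : Set SLFiveTransv.SL5) := by
  refine Subgroup.eq_of_le_of_card_ge ?_ ?_
  · rw [psi, range_presHom, Subgroup.closure_le]
    rintro _ ⟨x, hx, rfl⟩
    refine mem_centralizer_singleton_iff.2 (Subtype.ext ?_)
    rw [Matrix.SpecialLinearGroup.coe_mul, Matrix.SpecialLinearGroup.coe_mul, imgV_val hx, hs]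
    exact mats_comm ⟨x, hx⟩
  · rw [← Nat.card_congr (MonoidHom.ofInjective psi_injective).toEquiv, card_eq,
      SLFiveTransv.card_centralizer s hs]

theorem he_centralizer (s : Matrix.SpecialLinearGroup (Fin 5) (ZMod 2))
    (hs : (s : Matrix (Fin 5) (Fin 5) (ZMod 2)) = Matrix.transvection 0 1 1) :
    ∃ z : Cfsg.Spor.He, orderOf z = 2 ∧ Nonempty (↥(centralizer ({z} : Set Cfsg.Spor.He)) ≃*
      ↥(centralizer ({s} : Set (Matrix.SpecialLinearGroup (Fin 5) (ZMod 2))))) := by
  obtain ⟨e, -⟩ : ∃ e : P₀ ≃* Cfsg.Spor.He, True := by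
    obtain ⟨e₀, -⟩ := Held.exists_equiv_gen
    exact ⟨e₀, trivial⟩
  refine ⟨e zH, by rw [MulEquiv.orderOf_eq]; exact orderOf_zH, ⟨?_⟩⟩
  have h1 : (centralizer ({zH} : Set P₀)).map e.toMonoidHom = centralizer ({e zH} : Set Cfsg.Spor.He) := by
    ext y
    rw [Subgroup.mem_map_equiv, mem_centralizer_singleton_iff, mem_centralizer_singleton_iff,
      ← e.injective.eq_iff]
    simp
  exact (((MulEquiv.subgroupCongr h1).symm.trans (e.subgroupMap _).symm).trans
    (((MonoidHom.ofInjective phi_injective).trans (MulEquiv.subgroupCongr range_phi)).symm)).trans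
    ((MonoidHom.ofInjective psi_injective).trans (MulEquiv.subgroupCongr (range_psi s hs)))

end CfsgLib.Spor.HeInvCent
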